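import Mathlib
import Cfsg.Agent.H792.SpTool

/-!
# `FullP p G` from a `p`-subgroup normalised by a four-group (helper546)

`fullP_of_radical`: `S` a Sylow `p`-subgroup, `R ≤ S` normalised by the four-group `⟨z, u⟩`, `S = R C_S(z)`, a nontrivial
`p`-element `x` commuting with `z` and `u`, `FullP p C(a)` for all involutions `a`. Then `FullP p G`.
-/

set_option autoImplicit false

namespace Cfsg.Agent.H546.FullRad

open Subgroup Cfsg Cfsg.Agent.H749 Cfsg.Agent.H792.SpTool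

variable {p : ℕ} [hp : Fact p.Prime] {G : Type*} [Group G] [Finite G]

theorem fullP_of_radical (hp2 : p ≠ 2) (S : Sylow p G) {R : Subgroup G} (hRS : R ≤ (S : Subgroup G)) {z u x : G}
    (hz : z * z = 1) (hz1 : z ≠ 1) (hu : u * u = 1) (hu1 : u ≠ 1) (hzu : z * u = u * z) (hne : u ≠ z)
    (hx : PEl p x) (hx1 : x ≠ 1) (hxz : x * z = z * x) (hxu : x * u = u * x)
    (hzR : ∀ r ∈ R, z * r * z⁻¹ ∈ R) (huR : ∀ r ∈ R, u * r * u⁻¹ ∈ R)
    (hS : ∀ s ∈ (S : Subgroup G), ∃ r ∈ R, ∃ c ∈ (S : Subgroup G), c * z = z * c ∧ s = r * c)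
    (hC : ∀ a : G, a * a = 1 → a ≠ 1 → FullP p (centralizer ({a} : Set G))) : FullP p G := by
  rintro P hP ⟨y, hy, hy1, hPy⟩ w hw
  have hRp : IsPGroup p R := S.2.to_le hRS
  have hzi : z⁻¹ = z := inv_eq_of_mul_eq_one_left hz
  -- the three involutions
  have hinv : ∀ a : G, (a = z ∨ a = u ∨ a = z * u) → a * a = 1 ∧ a ≠ 1 ∧ x * a = a * x := by
    rintro a (rfl | rfl | rfl)
    · exact ⟨hz, hz1, hxz⟩
    · exact ⟨hu, hu1, hxu⟩
    · refine ⟨?_, ?_, ?_⟩
      · calc z * u * (z * u) = z * (u * z) * u := by group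
          _ = z * (z * u) * u := by rw [hzu]
          _ = (z * z) * (u * u) := by group
          _ = 1 := by rw [hz, hu, one_mul]
      · intro h
        apply hne
        have h1 : z = u⁻¹ := eq_inv_of_mul_eq_one_left h
        rw [h1, inv_eq_of_mul_eq_one_left hu]
      · calc x * (z * u) = (x * z) * u := by group
          _ = z * (x * u) := by rw [hxz]; group
          _ = z * u * x := by rw [hxu]; group
  -- the part of the class in `R`
  let M : Subgroup G :=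
    { carrier := {r | r ∈ R ∧ P r}
      one_mem' := ⟨one_mem _, hP.one⟩
      mul_mem' := fun ha hb => ⟨mul_mem ha.1 hb.1, hP.mul hRp ha.1 hb.1 ha.2 hb.2⟩
      inv_mem' := fun ha => ⟨inv_mem ha.1, hP.inv ha.2⟩ }
  have hMp : IsPGroup p M := hRp.to_le (fun r hr => hr.1)
  have hodd : Odd (Nat.card M) := by
    obtain ⟨n, hn⟩ := IsPGroup.iff_card.mp hMp
    rw [hn]
    exact (hp.out.odd_of_ne_two hp2).pow
  -- an element of the class commuting with one of the three involutions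
  have key : ∃ a : G, (a = z ∨ a = u ∨ a = z * u) ∧ ∃ s ∈ (S : Subgroup G), s ≠ 1 ∧ s * a = a * s ∧ P s := by
    by_contra hcon
    push Not at hcon
    have hM : M ≤ ⊥ := by
      refine Lib.KleinGen.le_of_klein M ⊥ hodd z u hz hu hzu
        (fun r hr => ⟨hzR r hr.1, hP.conj z hr.2⟩) (fun r hr => ⟨huR r hr.1, hP.conj u hr.2⟩) ?_ ?_ ?_
      · intro r hr
        by_contra h1
        exact hcon z (Or.inl rfl) r (hRS hr.1.1) h1 (mem_centralizer_singleton_iff.1 hr.2) hr.1.2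
      · intro r hr
        by_contra h1
        exact hcon u (Or.inr (Or.inl rfl)) r (hRS hr.1.1) h1 (mem_centralizer_singleton_iff.1 hr.2) hr.1.2
      · intro r hr
        by_contra h1
        exact hcon (z * u) (Or.inr (Or.inr rfl)) r (hRS hr.1.1) h1 (mem_centralizer_singleton_iff.1 hr.2) hr.1.2
    refine part_ne_bot hP S hy hy1 hPy ?_
    rw [eq_bot_iff]
    intro s hs
    rw [mem_bot]
    by_contra hs1
    obtain ⟨r, hr, c, hc, hcz, rfl⟩ := hS s hs.1
    -- `z s z⁻¹ s⁻¹ ∈ R`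
    have e1 : z * (r * c) * z⁻¹ * (r * c)⁻¹ = (z * r * z⁻¹) * r⁻¹ := by
      calc z * (r * c) * z⁻¹ * (r * c)⁻¹ = z * r * (c * z⁻¹) * c⁻¹ * r⁻¹ := by group
        _ = z * r * (c * z) * c⁻¹ * r⁻¹ := by rw [hzi]
        _ = z * r * (z * c) * c⁻¹ * r⁻¹ := by rw [hcz]
        _ = z * r * z * r⁻¹ := by group
        _ = _ := by rw [hzi]
    have h1 : z * (r * c) * z⁻¹ * (r * c)⁻¹ ∈ R := by
      rw [e1]
      exact mul_mem (hzR r hr) (inv_mem hr)
    have h2 : z * (r * c) * z⁻¹ ∈ (S : Subgroup G) := by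
      have h3 := mul_mem (hRS h1) hs.1
      rwa [inv_mul_cancel_right] at h3
    have h3 : P (z * (r * c) * z⁻¹ * (r * c)⁻¹) :=
      hP.mul S.2 h2 (inv_mem hs.1) (hP.conj z hs.2) (hP.inv hs.2)
    have h4 : z * (r * c) * z⁻¹ * (r * c)⁻¹ ∈ M := ⟨h1, h3⟩
    have h5 := mem_bot.1 (hM h4)
    have h6 : z * (r * c) * z⁻¹ = r * c := mul_inv_eq_one.1 h5
    exact hcon z (Or.inl rfl) (r * c) hs.1 hs1 (mul_inv_eq_iff_eq_mul.1 h6).symm hs.2
  obtain ⟨a, ha, s, hsS, hs1, hsa, hPs⟩ := key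
  obtain ⟨ha2, ha1, hxa⟩ := hinv a ha
  have hPx : P x :=
    all_of_fullP_centralizer (hC a ha2 ha1) hP (PEl.of_isPGroup S.2 hsS) hs1 hsa hPs hx hxa
  have hall : ∀ b : G, (b = z ∨ b = u ∨ b = z * u) → ∀ v : G, PEl p v → v * b = b * v → P v := by
    intro b hb v hv hvb
    obtain ⟨hb2, hb1, hxb⟩ := hinv b hb
    exact all_of_fullP_centralizer (hC b hb2 hb1) hP hx hx1 hxb hPx hv hvb
  refine all_of_sylow hP S (fun v hv => ?_) hw
  obtain ⟨r, hr, c, hc, hcz, rfl⟩ := hS v hv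
  refine hP.mul S.2 (hRS hr) hc ?_ (hall z (Or.inl rfl) c (PEl.of_isPGroup S.2 hc) hcz)
  exact all_of_klein hp2 hP hRp hz hu hzu hzR huR
    (fun t ht v hv hvt => hall t ht v (PEl.of_isPGroup hRp hv) hvt) hr

end Cfsg.Agent.H546.FullRad
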