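import Mathlib
import Cfsg.Prelude.Def_LieTypeChar
import Cfsg.Agent.H545.LT.Defs
import Cfsg.Agent.H254.CopCard
import Cfsg.Agent.H967.CopSec

/-!
# Field automorphisms: the generic row (helper546)

* `card_out_of_center` : `|Out S| |S| = |Aut S|` if `Z(S) = 1`;
* `fieldAct_of` : criterion for `FieldAct` with the group of all automorphisms of a finite field;
* `fermat_dvd` : `s ∣ q ^ (s - 1) - 1`.
-/

set_option autoImplicit false

namespace Cfsg.Agent.H546.FaGen

open Cfsg Cfsg.Agent.H545.LT Cfsg.Agent.H967.CopMat Cfsg.Agent.H967.CopSec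

universe u

theorem card_inn_of_center {K : Type u} [Group K] [Finite K] (h : Subgroup.center K = ⊥) :
    Nat.card (Cfsg.Inn K) = Nat.card K := by
  have h1 : Function.Injective (MulAut.conj : K →* MulAut K) := by
    rw [injective_iff_map_eq_one]
    intro x hx
    have h2 : x ∈ Subgroup.center K := by
      rw [Subgroup.mem_center_iff]
      intro g
      have h3 := DFunLike.congr_fun hx g
      rw [MulAut.conj_apply, MulAut.one_apply, mul_inv_eq_iff_eq_mul] at h3
      exact h3.symm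
    rw [h] at h2
    exact Subgroup.mem_bot.1 h2
  have h2 : Cfsg.Inn K = (MulAut.conj : K →* MulAut K).range := rfl
  rw [h2]
  exact (Nat.card_congr (MonoidHom.ofInjective h1).toEquiv).symm

theorem card_out_of_center {K : Type u} [Group K] [Finite K] (h : Subgroup.center K = ⊥) :
    Nat.card (Cfsg.Out K) * Nat.card K = Nat.card (MulAut K) := by
  have h1 := Subgroup.index_mul_card (Cfsg.Inn K)
  rw [card_inn_of_center h] at h1
  exact h1

/-- if all elements inducing the identity are trivial, the centre is trivial -/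
theorem center_eq_bot {K : Type u} [Group K] (h : ∀ x : K, MulAut.conj x = 1 → x = 1) : Subgroup.center K = ⊥ := by
  rw [eq_bot_iff]
  intro x hx
  rw [Subgroup.mem_bot]
  apply h
  ext y
  rw [MulAut.conj_apply, MulAut.one_apply, ← Subgroup.mem_center_iff.1 hx y, mul_inv_cancel_right]

/-- **The generic row.** -/
theorem fieldAct_of {S : Type u} [Group S] [Finite S] (hs : Group.IsSolvable (Cfsg.Out S)) {F : Type} [Field F] [Finite F]
    (Ψ : (F ≃+* F) →* MulAut S) {K L : Set ℕ} (hinn : ∀ σ, Ψ σ ∈ Cfsg.Inn S → σ = 1) {c : ℕ}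
    (hc : Nat.card (Cfsg.Out S) ∣ c * Nat.card (F ≃+* F)) (hcK : ∀ p : ℕ, p.Prime → p ∣ c → p ∈ K)
    (hfix : ∀ σ : F ≃+* F, (orderOf σ).Prime → orderOf σ ∉ K → ∀ s ∈ L, s.Prime ∧ s ∣ Nat.card (Fix (Ψ σ))) :
    FieldAct S K L := by
  have hfin : Finite (F ≃+* F) := Finite.of_injective (fun f : F ≃+* F => (f : F → F)) DFunLike.coe_injective
  have hcyc : IsCyclic (F ≃+* F) := LieRecognition.FieldSemilinear.isCyclic_ringAut F
  refine ⟨hs, (F ≃+* F), inferInstance, hfin, hcyc, Ψ, ?_, ?_, ?_⟩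
  · intro σ hσ _ hi
    rw [hinn σ hi, orderOf_one] at hσ
    exact Nat.not_prime_one hσ
  · intro p hp hpK k hk
    refine Nat.Coprime.dvd_of_dvd_mul_left ?_ (hk.trans hc)
    exact Nat.Coprime.pow_left k ((Nat.Prime.coprime_iff_not_dvd hp).2 fun h => hpK (hcK p hp h))
  · intro σ hσ hσK s hs'
    obtain ⟨h1, h2⟩ := hfix σ hσ hσK s hs'
    have : Fact s.Prime := ⟨h1⟩
    obtain ⟨x, hx⟩ := exists_prime_orderOf_dvd_card' s h2
    exact ⟨x, by rw [← hx, Subgroup.orderOf_coe], x.2⟩

/-- the version with a model `Y` of the fixed points -/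
theorem dvd_fix {S : Type u} [Group S] [Finite S] {φ : MulAut S} {Y : Type*} [Group Y] (h : Sec S φ Y) {s : ℕ}
    (hs : s ∣ Nat.card Y) : s ∣ Nat.card (Fix φ) := hs.trans h.card_dvd

theorem fermat_dvd {q s : ℕ} (hs : s.Prime) (h : ¬ s ∣ q) : s ∣ q ^ (s - 1) - 1 := by
  have : Fact s.Prime := ⟨hs⟩
  have hq : 1 ≤ q := by
    rcases Nat.eq_zero_or_pos q with h0 | h0
    · subst h0; exact absurd (dvd_zero s) h
    · exact h0
  have h1 : ((q : ZMod s)) ≠ 0 := by
    rwa [Ne, ZMod.natCast_eq_zero_iff]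
  have h2 := ZMod.pow_card_sub_one_eq_one h1
  rw [← ZMod.natCast_eq_zero_iff, Nat.cast_sub (Nat.one_le_pow _ _ hq), Nat.cast_pow, Nat.cast_one, h2, sub_self]

theorem coprime_of_not_dvd {s q : ℕ} (hs : s.Prime) (h : ¬ s ∣ q) : s.Coprime q := (Nat.Prime.coprime_iff_not_dvd hs).2 h

/-- the characteristic of a finite field, and its order -/
theorem char_facts {E : Type*} [Field E] [Fintype E] (r : ℕ) [Fact r.Prime] [CharP E r] :
    r ∣ Fintype.card E ∧ ∀ s : ℕ, s.Prime → s ∣ Fintype.card E → s = r := by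
  obtain ⟨f, hp, hf⟩ := FiniteField.card E r
  rw [hf]
  refine ⟨dvd_pow_self r f.pos.ne', fun s hs h => ?_⟩
  exact (Nat.prime_dvd_prime_iff_eq hs hp).1 (hs.dvd_of_dvd_pow h)

end Cfsg.Agent.H546.FaGen
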