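import Cfsg.Agent.H546.MaxNorThirteen

/-!
# If the nontrivial `{p, q}`-subgroups of `PSL(2, F)` have maximal normalizers then `|F| = 13`
-/

set_option autoImplicit false
set_option linter.unusedSectionVars false

namespace Cfsg.Agent.H546.MaxNor

open Subgroup
open scoped Pointwise

variable {X : Type*} [Group X]

theorem Out.card_nor [Finite X] {U : Subgroup X} {g z t u : X} {s r v : ℕ} (hX : PM X) (L : Loc U g r v)
    (O : Out U g z t u s) : Nat.card (normalizer (U : Set X)) ≤ 12 := by
  classical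
  have h1 : Nat.card (Fin 3 × U) = 12 := by
    rw [Nat.card_prod, O.card hX L, Nat.card_eq_fintype_card, Fintype.card_fin]
  rw [← h1]
  have h2 : ∀ m : normalizer (U : Set X), ∃ x : Fin 3 × U, (m : X) = g ^ (x.1 : ℕ) * x.2 := by
    intro m
    obtain ⟨i, hi, w, hw, h⟩ := O.M m m.2
    exact ⟨(⟨i, hi⟩, ⟨w, hw⟩), h⟩
  choose f hf using h2
  refine Nat.card_le_card_of_injective f ?_
  intro m m' h
  apply Subtype.ext
  rw [hf m, hf m', h]

/-- there is no proper subgroup isomorphic to `A5` -/
theorem alt_top [Finite X] {U : Subgroup X} {g z t u : X} {s r v : ℕ} (hX : PM X) (L : Loc U g r v)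
    (O : Out U g z t u s) {H : Subgroup X} (e : H ≃* alternatingGroup (Fin 5)) : False := by
  have hf2 : Fact (Nat.Prime 2) := ⟨Nat.prime_two⟩
  let PU : Sylow 2 X := ⟨U, L.two, fun {W} hW hle => O.sylow W hW hle⟩
  obtain ⟨a₀, b₀, c₀, ha, hb, hab, hca, hcb, hc, ha1, hb1, hba, hc1⟩ : ∃ a b c : alternatingGroup (Fin 5),
      a * a = 1 ∧ b * b = 1 ∧ a * b = b * a ∧ c * a * c⁻¹ = b ∧ c * b * c⁻¹ = a * b ∧ c ^ 3 = 1 ∧
      a ≠ 1 ∧ b ≠ 1 ∧ b ≠ a ∧ c ≠ 1 := by
    refine ⟨⟨Equiv.swap 0 1 * Equiv.swap 2 3, Equiv.Perm.mem_alternatingGroup.2 (by decide)⟩,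
      ⟨Equiv.swap 0 2 * Equiv.swap 1 3, Equiv.Perm.mem_alternatingGroup.2 (by decide)⟩,
      ⟨Equiv.swap 1 2 * Equiv.swap 2 3, Equiv.Perm.mem_alternatingGroup.2 (by decide)⟩,
      ?_, ?_, ?_, ?_, ?_, ?_, ?_, ?_, ?_, ?_⟩
    all_goals first | (apply Subtype.ext; decide) | (intro h; exact absurd (congrArg Subtype.val h) (by decide))
  let φ : alternatingGroup (Fin 5) →* X := H.subtype.comp e.symm.toMonoidHom
  have hφi : Function.Injective φ := H.subtype_injective.comp e.symm.injective
  have hφH : ∀ y, φ y ∈ H := fun y => (e.symm y).2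
  set a := φ a₀ with haa
  set b := φ b₀ with hbb
  set c := φ c₀ with hcc
  have ha' : a * a = 1 := by rw [haa, ← map_mul, ha, map_one]
  have hb' : b * b = 1 := by rw [hbb, ← map_mul, hb, map_one]
  have hab' : a * b = b * a := by rw [haa, hbb, ← map_mul, hab, map_mul]
  have hca' : c * a * c⁻¹ = b := by rw [haa, hbb, hcc, ← map_inv, ← map_mul, ← map_mul, hca]
  have hcb' : c * b * c⁻¹ = a * b := by rw [haa, hbb, hcc, ← map_inv, ← map_mul, ← map_mul, ← map_mul, hcb]
  have hc' : c ^ 3 = 1 := by rw [hcc, ← map_pow, hc, map_one]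
  have ha1' : a ≠ 1 := by rw [haa, Ne, ← map_one φ, hφi.eq_iff]; exact ha1
  have hb1' : b ≠ 1 := by rw [hbb, Ne, ← map_one φ, hφi.eq_iff]; exact hb1
  have hba' : b ≠ a := by rw [haa, hbb, Ne, hφi.eq_iff]; exact hba
  have hc1' : c ≠ 1 := by rw [hcc, Ne, ← map_one φ, hφi.eq_iff]; exact hc1
  set W : Subgroup X := zpowers a ⊔ zpowers b with hW
  have haW : a ∈ W := le_sup_left (a := zpowers a) (mem_zpowers a)
  have hbW : b ∈ W := le_sup_right (a := zpowers a) (mem_zpowers b)
  have hWH : W ≤ H := by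
    rw [hW]
    apply sup_le
    · rw [zpowers_le]; exact hφH _
    · rw [zpowers_le]; exact hφH _
  have hW2 : IsPGroup 2 W := by
    apply isPGroup_sup
    · exact isPGroup_zpowers (k := 1) (by rw [pow_one]; exact orderOf_of_sq ha' ha1')
    · exact isPGroup_zpowers (k := 1) (by rw [pow_one]; exact orderOf_of_sq hb' hb1')
    · exact le_nor_of_comm (comm_zpowers hab')
  obtain ⟨P, hP⟩ := hW2.exists_le_sylow
  have hPc : Nat.card P = 4 := by
    rw [← O.card hX L]
    have h1 := Sylow.card_eq_multiplicity P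
    have h2 := Sylow.card_eq_multiplicity PU
    rw [h1]; exact h2.symm
  have hWc : Nat.card W = 4 := by
    have h1 : Nat.card W ∣ 4 := hPc ▸ Subgroup.card_dvd_of_le hP
    have h2 : Nat.card W ≠ 1 := by
      intro h
      have h3 := Subgroup.card_eq_one.1 h
      rw [h3, Subgroup.mem_bot] at haW
      exact ha1' haW
    have h3 : Nat.card W ≠ 2 := by
      intro h
      have h4 : zpowers a = W := by
        apply Subgroup.eq_of_le_of_card_ge le_sup_left
        rw [Nat.card_zpowers, orderOf_of_sq ha' ha1', h]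
      have h5 : b ∈ zpowers a := by rw [h4]; exact hbW
      obtain ⟨k, hk⟩ := mem_zpowers_iff.1 h5
      rcases Int.even_or_odd' k with ⟨j, rfl | rfl⟩
      · rw [zpow_mul, zpow_ofNat, pow_two, ha', one_zpow] at hk
        exact hb1' hk.symm
      · rw [zpow_add, zpow_mul, zpow_ofNat, pow_two, ha', one_zpow, one_mul, zpow_one] at hk
        exact hba' hk.symm
    have h4 : Nat.card W ≤ 4 := Nat.le_of_dvd (by norm_num) h1
    interval_cases (Nat.card W)
    · simp at h1
    · exact absurd rfl h2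
    · exact absurd rfl h3
    · norm_num at h1
    · rfl
  have hWP : W = P := Subgroup.eq_of_le_of_card_ge hP (by rw [hPc, hWc])
  have hnor : Nat.card (normalizer (W : Set X)) ≤ 12 := by
    have h1 := O.card_nor hX L
    have h2 := Sylow.card_eq_index_normalizer P
    have h3 := Sylow.card_eq_index_normalizer PU
    rw [h2] at h3
    have h4 := Subgroup.card_mul_index (normalizer (P : Set X))
    have h5 := Subgroup.card_mul_index (normalizer (PU : Set X))
    rw [← h5, h3] at h4
    have h6 : 0 < (normalizer (PU : Set X)).index := Nat.pos_of_ne_zero Subgroup.index_ne_zero_of_finite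
    have h7 := Nat.eq_of_mul_eq_mul_right h6 h4
    rw [hWP]
    change Nat.card (normalizer (P : Set X)) ≤ 12
    rw [h7]
    exact h1
  have hcn : c ∈ normalizer (W : Set X) := by
    apply mem_nor
    have h1 : W.map (MulAut.conj c).toMonoidHom ≤ W := by
      rw [Subgroup.map_le_iff_le_comap]
      nth_rewrite 1 [hW]
      apply sup_le
      · rw [zpowers_le]
        change c * a * c⁻¹ ∈ W
        rw [hca']; exact hbW
      · rw [zpowers_le]
        change c * b * c⁻¹ ∈ W
        rw [hcb']; exact mul_mem haW hbW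
    intro x hx
    exact h1 ⟨x, hx, rfl⟩
  have hle : normalizer (W : Set X) ≤ H := by
    have h1 : 4 ∣ Nat.card (normalizer (W : Set X) ⊓ H : Subgroup X) := by
      rw [← hWc]
      exact Subgroup.card_dvd_of_le (le_inf le_normalizer hWH)
    have h2 : 3 ∣ Nat.card (normalizer (W : Set X) ⊓ H : Subgroup X) := by
      have h3 : Nat.card (zpowers c) = 3 := by
        rw [Nat.card_zpowers]
        have : Fact (Nat.Prime 3) := ⟨Nat.prime_three⟩
        exact orderOf_eq_prime hc' hc1'
      rw [← h3]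
      apply Subgroup.card_dvd_of_le
      rw [zpowers_le]
      exact ⟨hcn, hφH _⟩
    have h3 : 12 ∣ Nat.card (normalizer (W : Set X) ⊓ H : Subgroup X) := by
      have := Nat.Coprime.mul_dvd_of_dvd_of_dvd (by decide : Nat.Coprime 4 3) h1 h2
      exact this
    have h4 := Nat.le_of_dvd Nat.card_pos h3
    have h5 : (normalizer (W : Set X) ⊓ H : Subgroup X) = normalizer (W : Set X) :=
      Subgroup.eq_of_le_of_card_ge inf_le_left (hnor.trans h4)
    rw [← h5]; exact inf_le_right
  have hWb : W ≠ ⊥ := by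
    intro h; rw [h, Subgroup.card_bot] at hWc; norm_num at hWc
  have hHc : Nat.card H = 60 := by
    rw [Nat.card_congr e.toEquiv, Nat.card_eq_fintype_card]
    decide +kernel
  rcases (hX W hWb (twoP_of_isPGroup Nat.prime_two hW2)).le_iff.1 hle with h | h
  · -- `Y = A5`
    let e' : X ≃* alternatingGroup (Fin 5) :=
      (Subgroup.topEquiv.symm.trans (MulEquiv.subgroupCongr h.symm)).trans e
    have hel := (L.elem hX).1
    have h1 := alt_five ((e' z : alternatingGroup (Fin 5)) : Equiv.Perm (Fin 5))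
      (Equiv.Perm.mem_alternatingGroup.1 (e' z).2)
      (by rw [← Subgroup.coe_mul, ← map_mul, hel z O.hz, map_one, Subgroup.coe_one])
      (by
        intro h2
        have h3 : e' z = 1 := Subtype.ext h2
        rw [← map_one e', e'.injective.eq_iff] at h3
        exact O.hz1 h3)
      ((e' t : alternatingGroup (Fin 5)) : Equiv.Perm (Fin 5))
      (Equiv.Perm.mem_alternatingGroup.1 (e' t).2)
      (by rw [← Subgroup.coe_mul, ← map_mul, O.tz, map_mul, Subgroup.coe_mul])
    have h2 : e' (t * t) = 1 := by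
      rw [map_mul]; exact Subtype.ext h1
    rw [← map_one e', e'.injective.eq_iff] at h2
    have h3 : orderOf t ∣ 2 := orderOf_dvd_of_pow_eq_one (by rw [pow_two]; exact h2)
    rw [O.ord] at h3
    exact O.odd ((Nat.prime_dvd_prime_iff_eq O.prime Nat.prime_two).1 h3)
  · rw [h] at hHc
    omega

section thirteen

variable {F : Type*} [Field F] [Fintype F]

local notation "PSL2" => Matrix.ProjectiveSpecialLinearGroup (Fin 2) F

local notation "SL2" => Matrix.SpecialLinearGroup (Fin 2) F

open Cfsg.Agent.ClassicalGeometry.PSL2Basic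

theorem card_eq_thirteen (hX : PM PSL2) (hodd : Odd (Fintype.card F)) [Nontrivial PSL2] :
    Fintype.card F = 13 := by
  obtain ⟨-, U, g, r, v, z, t, u, s, L, O⟩ := main_simple hX
  have hf2 : Fact (Nat.Prime 2) := ⟨Nat.prime_two⟩
  let PU : Sylow 2 PSL2 := ⟨U, L.two, fun {W} hW hle => O.sylow W hW hle⟩
  have hcard := card_PSL2_odd (F := F) hodd
  have h8 : ¬ 8 ∣ Nat.card PSL2 := by
    intro h
    have h1 : Nat.card (PU : Subgroup PSL2) = 4 := O.card hX L
    have h2 : 2 ^ 3 ∣ Nat.card (PU : Subgroup PSL2) := PU.pow_dvd_card_of_pow_dvd_card (by norm_num; exact h)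
    rw [h1] at h2
    norm_num at h2
  have h5 : ¬ 5 ∣ Fintype.card F * (Fintype.card F ^ 2 - 1) := by
    intro h
    obtain ⟨H, ⟨e⟩⟩ := (Cfsg.Agent.S0804.result (F := F) rfl).2 h
    exact alt_top hX L O e
  have h3F : 3 ∣ Fintype.card F → (3 : F) = 0 := by
    intro h
    obtain ⟨p, hp⟩ := CharP.exists F
    obtain ⟨n, hpp, hn⟩ := FiniteField.card F p
    rw [hn] at h
    have h1 := (Nat.prime_dvd_prime_iff_eq Nat.prime_three hpp).1 (Nat.prime_three.dvd_of_dvd_pow h)
    subst h1
    exact_mod_cast CharP.cast_eq_zero F 3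
  have hnc3 := fun h => not_char_three (F := F) hX (h3F h) hodd
  have hsolv : Nat.card PSL2 ≠ 12 := by
    intro h
    apply not_solv hX (N := ⊤) Subgroup.normal_top top_ne_bot
    apply Cfsg.Agent.S0144.result 2 3 2 1 Nat.prime_two Nat.prime_three
    rw [Subgroup.card_top, h]; norm_num
  have hd11 := fun hq => Cfsg.Agent.S0811.result (F := F) (q := Fintype.card F) rfl hq
  have hd12 := fun hq => Cfsg.Agent.S0812.result (F := F) (q := Fintype.card F) rfl hq
  have hgt : 1 < Fintype.card F := Fintype.one_lt_card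
  generalize Fintype.card F = q at *
  have hne : ∀ k ∈ ({2, 3, 5, 7, 9, 11} : Finset ℕ), q ≠ k := by
    intro k hk hqk
    subst hqk
    simp only [Finset.mem_insert, Finset.mem_singleton] at hk
    rcases hk with rfl | rfl | rfl | rfl | rfl | rfl
    · exact absurd hodd (by decide)
    · exact hsolv (by omega)
    · exact h5 (by norm_num)
    · exact h8 (by omega)
    · exact h5 (by norm_num)
    · exact h5 (by norm_num)
  have hq6 : q ∉ ({2, 3, 5, 7, 9, 11} : Finset ℕ) := fun h => hne q h rfl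
  have hq3 : q ∉ ({2, 7, 9} : Finset ℕ) := by
    intro h
    apply hq6
    simp only [Finset.mem_insert, Finset.mem_singleton] at h ⊢
    tauto
  have hgcd : Nat.gcd 2 (q - 1) = 2 := by
    apply Nat.gcd_eq_left
    exact (Nat.Odd.sub_odd hodd odd_one).two_dvd
  obtain ⟨m, hm⟩ := hodd
  simp only [Finset.mem_insert, Finset.mem_singleton, not_or] at hq6
  have h3 : 3 ∣ q ∨ 3 ∣ m ∨ 3 ∣ m + 1 := by
    clear hcard h8 h5 hsolv hq6 hq3 hgcd
    rcases (by omega : m % 3 = 0 ∨ m % 3 = 1 ∨ m % 3 = 2) with h | h | h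
    · exact Or.inr (Or.inl (by omega))
    · exact Or.inl (by omega)
    · exact Or.inr (Or.inr (by omega))
  rcases h3 with h3 | h3 | h3
  · exact (hnc3 h3 (by omega)).elim
  · obtain ⟨H, -, ⟨e⟩⟩ := hd12 (by
      simp only [Finset.mem_insert, Finset.mem_singleton, not_or]; exact hq6)
    rw [hgcd] at e
    have h4 : (q - 1) / 2 = m := by omega
    rw [h4] at e
    have h6 := Nat.le_of_dvd (by norm_num) (dihedral_three hX e h3 (by omega))
    omega
  · obtain ⟨H, -, ⟨e⟩⟩ := hd11 hq3
    rw [hgcd] at e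
    have h4 : (q + 1) / 2 = m + 1 := by omega
    rw [h4] at e
    have h6 := Nat.le_of_dvd (by norm_num) (dihedral_three hX e h3 (by omega))
    omega

end thirteen

end Cfsg.Agent.H546.MaxNor
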