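import Cfsg.Agent.H546.MaxNorOne
import Cfsg.Agent.S0111

/-!
# Case II of the 2-local analysis: the centralizers of the involutions of `U` are 2-groups

This case is impossible (`caseII`).
-/

set_option autoImplicit false
set_option linter.unusedSectionVars false

namespace Cfsg.Agent.H546.MaxNor

open Subgroup
open scoped Pointwise

variable {X : Type*} [Group X]

/-- a nontrivial 2-element has a power of order two -/
theorem exists_invol {x : X} {k : ℕ} (hk : x ^ 2 ^ k = 1) (hx : x ≠ 1) :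
    ∃ m : ℕ, x ^ m * x ^ m = 1 ∧ x ^ m ≠ 1 := by
  induction k with
  | zero => rw [pow_zero, pow_one] at hk; exact absurd hk hx
  | succ k ih =>
    by_cases h : x ^ 2 ^ k = 1
    · exact ih h
    · refine ⟨2 ^ k, ?_, h⟩
      rw [← pow_add, ← two_mul, ← pow_succ', hk]

/-- a proper subgroup of a 2-group is properly contained in its normalizer -/
theorem exists_nor [Finite X] {A S : Subgroup X} (hS : IsPGroup 2 S) (hAS : A ≤ S) (hne : A ≠ S) :
    ∃ w ∈ S, w ∉ A ∧ w ∈ normalizer (A : Set X) := by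
  have hfact : Fact (Nat.Prime 2) := ⟨Nat.prime_two⟩
  have hnil : Group.IsNilpotent S := IsPGroup.isNilpotent hS
  have hnc : NormalizerCondition S := Group.normalizerCondition_of_isNilpotent
  have hlt' : A.subgroupOf S < ⊤ := by
    rw [lt_top_iff_ne_top]
    intro htop
    rw [Subgroup.subgroupOf_eq_top] at htop
    exact hne (le_antisymm hAS htop)
  obtain ⟨w, hw, hwn⟩ := SetLike.exists_of_lt (hnc _ hlt')
  rw [Subgroup.mem_subgroupOf] at hwn
  refine ⟨w, w.2, hwn, ?_⟩
  apply mem_nor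
  intro x hx
  have := conj_mem hw (show (⟨x, hAS hx⟩ : S) ∈ A.subgroupOf S from hx)
  exact this

theorem caseII [Finite X] (hX : PM X) {U : Subgroup X} {g : X} {r v : ℕ} (L : Loc U g r v)
    (h2 : ∀ z ∈ U, z ≠ 1 → IsPGroup 2 (centralizer ({z} : Set X))) : False := by
  have hfact : Fact (Nat.Prime 2) := ⟨Nat.prime_two⟩
  have hel := (L.elem hX).1
  have hab := (L.elem hX).2
  have hMtop : normalizer (U : Set X) ≠ ⊤ := (hX U L.U_ne (twoP_of_isPGroup Nat.prime_two L.two)).1
  have hMco := hX U L.U_ne (twoP_of_isPGroup Nat.prime_two L.two)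
  have hgodd : Odd (orderOf g) := by
    rw [L.ord]; exact (L.prime.odd_of_ne_two L.odd).pow
  have hg2 : ∀ w : X, w * (g * g) = g * g * w → w * g = g * w := by
    intro w h
    obtain ⟨k, hk⟩ := hgodd
    have h1 : (g * g) ^ (k + 1) = g := by
      rw [← pow_two, ← pow_mul, show 2 * (k + 1) = orderOf g + 1 by omega, pow_succ, pow_orderOf_eq_one, one_mul]
    have h3 := (show Commute w (g * g) from h).pow_right (k + 1)
    rw [h1] at h3
    exact h3
  -- no nontrivial element of `U` normalizes `⟨g⟩`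
  have b2 : ∀ x ∈ U, x ∈ normalizer (zpowers g : Set X) → x = 1 := by
    intro x hx hxn
    exact L.free hX hx (comm_of_nor Nat.prime_two L.prime L.odd.symm L.two L.isP L.zle hx hxn (mem_zpowers g))
  -- decomposition of the elements of `M`
  have b1 : ∀ m ∈ normalizer (U : Set X), ∃ u ∈ U, u⁻¹ * m ∈ normalizer (zpowers g : Set X) := by
    intro m hm
    have hns := nor_sup hX Nat.prime_two L.prime L.odd.symm L.two L.isP L.U_ne L.zle
    have hm' := hm
    rw [← hns] at hm'
    have hle : (zpowers g).map (MulAut.conj m).toMonoidHom ≤ U ⊔ zpowers g := by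
      rintro _ ⟨ρ, hρ, rfl⟩
      exact conj_mem hm' (le_sup_right (b := zpowers g) hρ)
    obtain ⟨u, hu, hRu⟩ := conj_of_sup Nat.prime_two L.prime L.odd.symm L.two L.isP (L.isP.map _) L.zle hle
      (Subgroup.card_map_of_injective (MulAut.conj m).injective)
    refine ⟨u, hu, ?_⟩
    apply mem_nor
    intro ρ hρ
    have h1 : m * ρ * m⁻¹ ∈ (zpowers g).map (MulAut.conj m).toMonoidHom := ⟨ρ, hρ, rfl⟩
    rw [hRu] at h1
    obtain ⟨ρ', hρ', h3⟩ := h1
    have h4 : u * ρ' * u⁻¹ = m * ρ * m⁻¹ := h3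
    have h5 : u⁻¹ * m * ρ * (u⁻¹ * m)⁻¹ = ρ' := by
      rw [show u⁻¹ * m * ρ * (u⁻¹ * m)⁻¹ = u⁻¹ * (m * ρ * m⁻¹) * u by group, ← h4]
      group
    rw [h5]; exact hρ'
  -- an involution of `M` does not commute with `g`
  have b3 : ∀ i ∈ normalizer (U : Set X), i * i = 1 → i ≠ 1 → i * g ≠ g * i := by
    intro i hi hii hi1 hig
    have h1 := nor_comm hX Nat.prime_two L.prime L.odd.symm
      (isPGroup_zpowers (p := 2) (k := 1) (x := i) (by rw [pow_one]; exact orderOf_of_sq hii hi1))
      L.isP (by rw [Ne, zpowers_eq_bot]; exact hi1) L.zne (comm_zpowers hig)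
    obtain ⟨u, hu, hu1⟩ := (Subgroup.bot_or_exists_ne_one U).resolve_left L.U_ne
    have hfix : ∃ w ∈ U, w ≠ 1 ∧ w * i = i * w := by
      have hiu : i * u * i⁻¹ ∈ U := conj_mem hi hu
      have hi' : i⁻¹ = i := inv_eq_of_mul_eq_one_right hii
      by_cases h : u * (i * u * i⁻¹) = 1
      · refine ⟨u, hu, hu1, ?_⟩
        have h3 : i * u * i⁻¹ = u := by
          have : u * (i * u * i⁻¹) = u * u := by rw [h, hel u hu]
          exact mul_left_cancel this
        exact (mul_inv_eq_iff_eq_mul.1 h3).symm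
      · refine ⟨_, mul_mem hu hiu, h, ?_⟩
        have h3 := hab u hu _ hiu
        calc u * (i * u * i⁻¹) * i = u * (i * u) := by group
          _ = i * (i⁻¹ * u * i) * u := by group
          _ = i * (i * u * i⁻¹) * u := by rw [hi']
          _ = i * (i * u * i⁻¹ * u) := by group
          _ = i * (u * (i * u * i⁻¹)) := by rw [h3]
    obtain ⟨w, hw, hw1, hwi⟩ := hfix
    apply hw1
    apply b2 w hw
    rw [← h1, mem_nor_invol hii hi1]
    exact hwi
  -- involutions of `M` outside `U`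
  have b4 : ∀ x ∈ normalizer (U : Set X), x * x = 1 → x ∉ U → ∃ u ∈ U, ∃ n ∈ normalizer (U : Set X),
      x = u * n ∧ n * n = 1 ∧ n ≠ 1 ∧ n * g * n⁻¹ = g⁻¹ := by
    intro x hx hxx hxU
    obtain ⟨u, hu, hun⟩ := b1 x hx
    set n := u⁻¹ * x with hn
    have hnM : n ∈ normalizer (U : Set X) := mul_mem (inv_mem (le_normalizer hu)) hx
    have hxun : x = u * n := by rw [hn]; group
    have hnn : n * n = 1 := by
      apply b2 _ _ (mul_mem hun hun)
      have h1 : u * (n * u * n⁻¹) * (n * n) = 1 := by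
        rw [show u * (n * u * n⁻¹) * (n * n) = (u * n) * (u * n) by group, ← hxun, hxx]
      have h3 : n * n = (u * (n * u * n⁻¹))⁻¹ := eq_inv_of_mul_eq_one_right h1
      rw [h3]
      exact inv_mem (mul_mem hu (conj_mem hnM hu))
    have hn1 : n ≠ 1 := by
      intro h
      apply hxU
      rw [hxun, h, mul_one]; exact hu
    refine ⟨u, hu, n, hnM, hxun, hnn, hn1, ?_⟩
    rcases invol_act L.prime L.odd L.ord hnn (conj_mem hun (mem_zpowers g)) with h | h
    · exact absurd (mul_inv_eq_iff_eq_mul.1 h) (b3 n hnM hnn hn1)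
    · exact h
  have hgne : g ≠ g⁻¹ := by
    intro h
    have h3 : g * g = 1 := by
      nth_rewrite 2 [h]; exact mul_inv_cancel g
    obtain ⟨u, -, hu⟩ := L.ncent
    exact hu (hg2 u (by rw [h3, mul_one, one_mul]))
  -- the product of two commuting involutions of `M` outside `U` is in `U`
  have b5 : ∀ x ∈ normalizer (U : Set X), ∀ y ∈ normalizer (U : Set X), x * x = 1 → y * y = 1 →
      x * y = y * x → x ∉ U → y ∉ U → x * y ∈ U := by
    intro x hx y hy hxx hyy hxy hxU hyU
    by_contra hcon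
    have hxy2 : (x * y) * (x * y) = 1 := by
      rw [show x * y * (x * y) = x * (y * x) * y by group, ← hxy]
      rw [show x * (x * y) * y = (x * x) * (y * y) by group, hxx, hyy, mul_one]
    obtain ⟨u₁, hu₁, n₁, hn₁, e₁, -, -, i₁⟩ := b4 x hx hxx hxU
    obtain ⟨u₂, hu₂, n₂, hn₂, e₂, -, -, i₂⟩ := b4 y hy hyy hyU
    obtain ⟨u₃, hu₃, n₃, hn₃, e₃, -, -, i₃⟩ := b4 _ (mul_mem hx hy) hxy2 hcon
    have hnorg : ∀ n : X, n * g * n⁻¹ = g⁻¹ → n ∈ normalizer (zpowers g : Set X) := by
      intro n hn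
      apply mem_nor
      intro ρ hρ
      obtain ⟨m, rfl⟩ := mem_zpowers_iff.1 hρ
      rw [← conj_zpow, hn]
      exact zpow_mem (inv_mem (mem_zpowers g)) m
    have h1 : n₁ * n₂ * n₃⁻¹ ∈ U := by
      have : n₁ * n₂ * n₃⁻¹ = (n₁ * u₂⁻¹ * n₁⁻¹) * u₁⁻¹ * u₃ := by
        have e : u₁ * n₁ * (u₂ * n₂) = u₃ * n₃ := by rw [← e₁, ← e₂, e₃]
        have e' : n₁ * u₂ * n₂ = u₁⁻¹ * u₃ * n₃ := by
          rw [mul_assoc u₁⁻¹, ← e]; group
        calc n₁ * n₂ * n₃⁻¹ = (n₁ * u₂⁻¹ * n₁⁻¹) * (n₁ * u₂ * n₂) * n₃⁻¹ := by group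
          _ = (n₁ * u₂⁻¹ * n₁⁻¹) * (u₁⁻¹ * u₃ * n₃) * n₃⁻¹ := by rw [e']
          _ = _ := by group
      rw [this]
      exact mul_mem (mul_mem (conj_mem hn₁ (inv_mem hu₂)) (inv_mem hu₁)) hu₃
    have h3 := b2 _ h1 (mul_mem (mul_mem (hnorg _ i₁) (hnorg _ i₂)) (inv_mem (hnorg _ i₃)))
    have h4 : n₁ * n₂ = n₃ := mul_inv_eq_one.1 h3
    have h5 : n₁ * n₂ * g * (n₁ * n₂)⁻¹ = g := by
      calc n₁ * n₂ * g * (n₁ * n₂)⁻¹ = n₁ * (n₂ * g * n₂⁻¹) * n₁⁻¹ := by group
        _ = n₁ * g⁻¹ * n₁⁻¹ := by rw [i₂]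
        _ = (n₁ * g * n₁⁻¹)⁻¹ := by group
        _ = g := by rw [i₁, inv_inv]
    rw [h4, i₃] at h5
    exact hgne h5.symm
  -- a Sylow 2-subgroup
  obtain ⟨S₁, ⟨hS₁2, hUS₁, hS₁M⟩, hS₁max⟩ := Set.Finite.exists_maximalFor
    (fun W : Subgroup X => Nat.card W)
    {W : Subgroup X | IsPGroup 2 W ∧ U ≤ W ∧ W ≤ normalizer (U : Set X)}
    (Set.toFinite _) ⟨U, L.two, le_rfl, le_normalizer⟩
  obtain ⟨S, hS₁S⟩ := hS₁2.exists_le_sylow
  have hSM : ∀ x ∈ (S : Subgroup X), x ∈ normalizer (U : Set X) → x ∈ S₁ := by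
    have hle : S₁ ≤ (S : Subgroup X) ⊓ normalizer (U : Set X) := le_inf hS₁S hS₁M
    have h1 := hS₁max (j := (S : Subgroup X) ⊓ normalizer (U : Set X))
      ⟨S.isPGroup'.to_le inf_le_left, hUS₁.trans hle, inf_le_right⟩
      (Nat.card_le_card_of_injective (Subgroup.inclusion hle) (Subgroup.inclusion_injective _))
    have h3 := Subgroup.eq_of_le_of_card_ge hle h1
    intro x hx hxM
    rw [h3]; exact ⟨hx, hxM⟩
  have hUS : U ≤ S := hUS₁.trans hS₁S
  -- the centre of `S`
  obtain ⟨z, hzS, hzz, hz1, hzc⟩ : ∃ z ∈ (S : Subgroup X), z * z = 1 ∧ z ≠ 1 ∧ ∀ w ∈ (S : Subgroup X), w * z = z * w := by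
    have hnt : Nontrivial (S : Subgroup X) := by
      rw [Subgroup.nontrivial_iff_ne_bot]
      intro h
      exact L.U_ne (le_bot_iff.1 (h ▸ hUS))
    have hct := S.isPGroup'.center_nontrivial
    obtain ⟨c, hc1⟩ := exists_ne (1 : Subgroup.center (S : Subgroup X))
    obtain ⟨k, hk⟩ := S.isPGroup' (c : (S : Subgroup X))
    have hk' : (((c : (S : Subgroup X)) : X)) ^ 2 ^ k = 1 := congrArg Subtype.val hk
    have hcne : ((c : (S : Subgroup X)) : X) ≠ 1 := by
      intro h
      exact hc1 (Subtype.ext (Subtype.ext h))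
    obtain ⟨m, hm1, hm2⟩ := exists_invol hk' hcne
    refine ⟨_, pow_mem (c : (S : Subgroup X)).2 m, hm1, hm2, fun w hw => ?_⟩
    have h1 := Subgroup.mem_center_iff.1 c.2 ⟨w, hw⟩
    have h3 : w * (c : (S : Subgroup X)) = (c : (S : Subgroup X)) * w := congrArg Subtype.val h1
    exact (show Commute w (((c : (S : Subgroup X)) : X)) from h3).pow_right m
  have hzU : z ∈ U := L.cent hX fun u hu => hzc u (hUS hu)
  have hCz : ∀ y, y * z = z * y → y ∈ (S : Subgroup X) := by
    have hle : (S : Subgroup X) ≤ centralizer ({z} : Set X) := by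
      intro w hw
      rw [mem_centralizer_singleton_iff]
      exact hzc w hw
    have h1 := S.is_maximal' (h2 z hzU hz1) hle
    intro y hy
    rw [← h1, mem_centralizer_singleton_iff]
    exact hy
  have hNz : normalizer (zpowers z : Set X) = (S : Subgroup X) := by
    ext y
    rw [mem_nor_invol hzz hz1]
    exact ⟨fun h => hCz y h, fun h => hzc y h⟩
  have hz2 : IsPGroup 2 (zpowers z) := isPGroup_zpowers (k := 1) (by rw [pow_one]; exact orderOf_of_sq hzz hz1)
  have hzb : zpowers z ≠ ⊥ := by rw [Ne, zpowers_eq_bot]; exact hz1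
  have hSco : IsCoatom (S : Subgroup X) := by
    rw [← hNz]; exact hX _ hzb (twoP_of_isPGroup Nat.prime_two hz2)
  have hSnle : ¬ (S : Subgroup X) ≤ normalizer (U : Set X) := by
    intro hle
    rcases hSco.le_iff.1 hle with h | h
    · exact hMtop h
    · have : g ∈ (S : Subgroup X) := h ▸ L.nor
      exact L.ne_one (inf_eq_bot L.prime Nat.prime_two L.odd L.isP S.isPGroup' (mem_zpowers g) this)
  have hS₁ne : S₁ ≠ S := by
    intro h; exact hSnle (h ▸ hS₁M)
  obtain ⟨s, hsS, hsS₁, hsn⟩ := exists_nor S.isPGroup' hS₁S hS₁ne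
  have hsM : s ∉ normalizer (U : Set X) := fun h => hsS₁ (hSM s hsS h)
  -- `E = s U s⁻¹`
  set E : Subgroup X := U.map (MulAut.conj s).toMonoidHom with hE
  have hEmem : ∀ x, x ∈ E ↔ s⁻¹ * x * s ∈ U := by
    intro x
    constructor
    · rintro ⟨y, hy, rfl⟩
      have : s⁻¹ * (MulAut.conj s) y * s = y := by simp [MulAut.conj_apply, mul_assoc]
      change s⁻¹ * (MulAut.conj s) y * s ∈ U
      rw [this]; exact hy
    · intro hx
      exact ⟨_, hx, by simp [MulAut.conj_apply, mul_assoc]⟩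
  have hES₁ : ∀ x ∈ E, x ∈ S₁ := by
    intro x hx
    have h1 := conj_mem hsn (hUS₁ ((hEmem x).1 hx))
    rwa [show s * (s⁻¹ * x * s) * s⁻¹ = x by group] at h1
  have hEM : ∀ x ∈ E, x ∈ normalizer (U : Set X) := fun x hx => hS₁M (hES₁ x hx)
  have hEel : ∀ x ∈ E, x * x = 1 := by
    intro x hx
    have h1 := hel _ ((hEmem x).1 hx)
    have h3 : s⁻¹ * (x * x) * s = 1 := by rw [← h1]; group
    have h4 : x * x = s * (s⁻¹ * (x * x) * s) * s⁻¹ := by group
    rw [h4, h3]; group
  have hEab : ∀ x ∈ E, ∀ y ∈ E, x * y = y * x := by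
    intro x hx y hy
    have h1 := hab _ ((hEmem x).1 hx) _ ((hEmem y).1 hy)
    calc x * y = s * (s⁻¹ * x * s * (s⁻¹ * y * s)) * s⁻¹ := by group
      _ = s * (s⁻¹ * y * s * (s⁻¹ * x * s)) * s⁻¹ := by rw [h1]
      _ = y * x := by group
  have hEcard : Nat.card E = Nat.card U := Subgroup.card_map_of_injective (MulAut.conj s).injective
  have hEU : ¬ E ≤ U := by
    intro hle
    have h1 : E = U := Subgroup.eq_of_le_of_card_ge hle hEcard.ge
    apply hsM
    rw [mem_normalizer_iff_map_conj_eq]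
    exact h1
  obtain ⟨x, hxE, hxU⟩ := SetLike.not_le_iff_exists.1 hEU
  have hxM := hEM x hxE
  have hxx := hEel x hxE
  obtain ⟨u₀, hu₀, n, hnM, hxun, hnn, hn1, hng⟩ := b4 x hxM hxx hxU
  -- the intersection `U ∩ E` has index two in `U`
  have hIE : ∀ y ∈ E, y ∉ U → ∀ w ∈ E, w ∉ U → y * w ∈ U := fun y hy hyU w hw hwU =>
    b5 y (hEM y hy) w (hEM w hw) (hEel y hy) (hEel w hw) (hEab y hy w hw) hyU hwU
  have hcardE : Nat.card E = 2 * Nat.card (U ⊓ E : Subgroup X) := by
    have h1 : ((U ⊓ E).subgroupOf E).index = 2 := by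
      rw [Subgroup.index_eq_two_iff]
      refine ⟨⟨x, hxE⟩, fun b => ?_⟩
      by_cases hb : (b : X) ∈ U
      · right
        refine ⟨⟨hb, b.2⟩, fun hcon => hxU ?_⟩
        have h3 : (b : X) * x ∈ U := hcon.1
        have := mul_mem (inv_mem hb) h3
        rwa [inv_mul_cancel_left] at this
      · left
        refine ⟨⟨hIE b b.2 hb x hxE hxU, mul_mem b.2 hxE⟩, fun hcon => hb hcon.1⟩
    have h3 := Subgroup.card_mul_index ((U ⊓ E).subgroupOf E)
    rw [h1, Nat.card_congr (Subgroup.subgroupOfEquivOfLe (inf_le_right : U ⊓ E ≤ E)).toEquiv] at h3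
    rw [← h3, mul_comm]
  have hIU : ∀ y ∈ U, y ∉ E → ∀ w ∈ U, w ∉ E → y * w ∈ E := by
    have h1 : ((U ⊓ E).subgroupOf U).index = 2 := by
      have h3 := Subgroup.card_mul_index ((U ⊓ E).subgroupOf U)
      rw [Nat.card_congr (Subgroup.subgroupOfEquivOfLe (inf_le_left : U ⊓ E ≤ U)).toEquiv, ← hEcard, hcardE,
        mul_comm 2] at h3
      exact Nat.eq_of_mul_eq_mul_left Nat.card_pos h3
    intro y hy hyE w hw hwE
    have h3 := Subgroup.mul_mem_iff_of_index_two h1 (a := ⟨y, hy⟩) (b := ⟨w, hw⟩)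
    have h4 : (⟨y, hy⟩ : U) * ⟨w, hw⟩ ∈ (U ⊓ E).subgroupOf U := by
      rw [h3]
      constructor
      · intro h; exact absurd h.2 hyE
      · intro h; exact absurd h.2 hwE
    exact h4.2
  -- `n` centralizes `U ∩ E`
  have hxc : ∀ w ∈ U, w ∈ E → w * n = n * w := by
    intro w hw hwE
    have h1 := hEab w hwE x hxE
    have h3 := hab w hw u₀ hu₀
    have h4 : n = u₀⁻¹ * x := by rw [hxun]; group
    rw [h4, ← mul_assoc, (show Commute w u₀ from h3).inv_right.eq, mul_assoc, h1, mul_assoc]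
  have hfreeI : ∀ w ∈ U, w ∈ E → w ≠ 1 → g * w * g⁻¹ ∉ E := by
    intro w hw hwE hw1 hcon
    have h1 := hxc _ (conj_mem L.nor hw) hcon
    have h3 := hxc w hw hwE
    apply hw1
    apply L.free_sq hX hw
    -- `g⁻¹ n g` commutes with `w`
    have h4 : Commute w (g⁻¹ * n * g) := by
      have e1 : w * (g⁻¹ * n * g) = g⁻¹ * (g * w * g⁻¹ * n) * g := by group
      have e2 : g⁻¹ * n * g * w = g⁻¹ * (n * (g * w * g⁻¹)) * g := by group
      change w * (g⁻¹ * n * g) = g⁻¹ * n * g * w
      rw [e1, e2, h1]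
    have h5 : g⁻¹ * n * g = (g * g)⁻¹ * n := by
      have h6 : n * g = g⁻¹ * n := mul_inv_eq_iff_eq_mul.1 hng
      rw [mul_assoc, h6]; group
    rw [h5] at h4
    have h7 : Commute w ((g * g)⁻¹) := by
      have := h4.mul_right (show Commute w n⁻¹ from (show Commute w n from h3).inv_right)
      rwa [mul_inv_cancel_right] at this
    have := h7.inv_right
    rw [inv_inv] at this
    exact this
  have hzE : z ∈ E := by
    rw [hEmem]
    have : s⁻¹ * z * s = z := by rw [mul_assoc, ← hzc s hsS]; group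
    rw [this]; exact hzU
  have hI : ∀ w ∈ U, w ∈ E → w ≠ 1 → w = z := by
    intro w hw hwE hw1
    by_contra hwz
    have hzw1 : z * w ≠ 1 := by
      intro h
      apply hwz
      have : z * w = z * z := by rw [h, hzz]
      exact mul_left_cancel this
    have h1 := hIU _ (conj_mem L.nor hzU) (hfreeI z hzU hzE hz1) _ (conj_mem L.nor hw) (hfreeI w hw hwE hw1)
    rw [show g * z * g⁻¹ * (g * w * g⁻¹) = g * (z * w) * g⁻¹ by group] at h1
    exact hfreeI _ (mul_mem hzU hw) (mul_mem hzE hwE) hzw1 h1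
  -- the elements of `U`
  set u : X := g * z * g⁻¹ with hudef
  have huU : u ∈ U := conj_mem L.nor hzU
  have hu1 : u ≠ 1 := fun h => hz1 (conj_eq_one_iff.1 h)
  have huE : u ∉ E := hfreeI z hzU hzE hz1
  have huz : u ≠ z := fun h => huE (h ▸ hzE)
  have huu := hel u huU
  have hzu := hab z hzU u huU
  have hmem : ∀ w ∈ U, w = 1 ∨ w = z ∨ w = u ∨ w = z * u := by
    intro w hw
    by_cases hwE : w ∈ E
    · by_cases hw1 : w = 1
      · exact Or.inl hw1
      · exact Or.inr (Or.inl (hI w hw hwE hw1))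
    · have h1 := hIU w hw hwE u huU huE
      by_cases hwu : w * u = 1
      · right; right; left
        have : w * u = u * u := by rw [hwu, huu]
        exact mul_right_cancel this
      · have h3 := hI _ (mul_mem hw huU) h1 hwu
        right; right; right
        rw [← h3, mul_assoc, huu, mul_one]
  -- the action of `g`
  set z₂ : X := g * u * g⁻¹ with hz₂
  have hz₂U : z₂ ∈ U := conj_mem L.nor huU
  have hz₂1 : z₂ ≠ 1 := fun h => hu1 (conj_eq_one_iff.1 h)
  have hz₂u : z₂ ≠ u := by
    intro h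
    exact hu1 (L.free hX huU (mul_inv_eq_iff_eq_mul.1 h).symm)
  have hz₂z : z₂ ≠ z := by
    intro h
    apply hz1
    apply L.free_sq hX hzU
    rw [hz₂, hudef, show g * (g * z * g⁻¹) * g⁻¹ = (g * g) * z * (g * g)⁻¹ by group] at h
    exact (mul_inv_eq_iff_eq_mul.1 h).symm
  have hz₂e : z₂ = z * u := by
    rcases hmem z₂ hz₂U with h | h | h | h
    · exact absurd h hz₂1
    · exact absurd h hz₂z
    · exact absurd h hz₂u
    · exact h
  have hg3z : g * z₂ * g⁻¹ = z := by
    have : g * z₂ * g⁻¹ = (g * z * g⁻¹) * (g * u * g⁻¹) := by rw [hz₂e]; group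
    rw [this, ← hudef, ← hz₂, hz₂e, hzu, ← mul_assoc, huu, one_mul]
  have hg3 : g ^ 3 = 1 := by
    have hc : ∀ w ∈ U, w * g ^ 3 = g ^ 3 * w := by
      have e1 : g ^ 3 * z * (g ^ 3)⁻¹ = z := by
        have : g ^ 3 * z * (g ^ 3)⁻¹ = g * (g * (g * z * g⁻¹) * g⁻¹) * g⁻¹ := by
          rw [show g ^ 3 = g * g * g by rw [pow_succ, pow_two]]; group
        rw [this, ← hudef, ← hz₂, hg3z]
      have e2 : g ^ 3 * u * (g ^ 3)⁻¹ = u := by
        have : g ^ 3 * u * (g ^ 3)⁻¹ = g * (g * (g * u * g⁻¹) * g⁻¹) * g⁻¹ := by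
          rw [show g ^ 3 = g * g * g by rw [pow_succ, pow_two]]; group
        rw [this, ← hz₂, hg3z]
      have c1 := (mul_inv_eq_iff_eq_mul.1 e1).symm
      have c2 := (mul_inv_eq_iff_eq_mul.1 e2).symm
      intro w hw
      rcases hmem w hw with h | h | h | h
      · rw [h, one_mul, mul_one]
      · rw [h]; exact c1
      · rw [h]; exact c2
      · rw [h, mul_assoc, c2, ← mul_assoc, c1, mul_assoc]
    have h1 := L.cent hX hc
    exact inf_eq_bot L.prime Nat.prime_two L.odd L.isP L.two (pow_mem (mem_zpowers g) 3) h1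
  -- `n ∈ E`
  have hxcent : ∃ w ∈ U, w * x ≠ x * w := by
    by_contra hcon
    push Not at hcon
    exact hxU (L.cent hX hcon)
  have hUc : ∀ w ∈ U, w * x = x * w → w = 1 ∨ w = z := by
    intro w hw hwx
    by_contra hcon
    push Not at hcon
    obtain ⟨y, hy, hyx⟩ := hxcent
    apply hyx
    have hzx := hEab z hzE x hxE
    have key : ∀ y ∈ U, y * x = x * y := by
      have hmem' : ∀ y ∈ U, y = 1 ∨ y = z ∨ y = w ∨ y = z * w := by
        intro y hy
        rcases hmem w hw with h | h | h | h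
        · exact absurd h hcon.1
        · exact absurd h hcon.2
        · rw [h]; exact hmem y hy
        · have hzw : z * w = u := by rw [h, ← mul_assoc, hzz, one_mul]
          rw [hzw, h]
          rcases hmem y hy with k | k | k | k
          · exact Or.inl k
          · exact Or.inr (Or.inl k)
          · exact Or.inr (Or.inr (Or.inr k))
          · exact Or.inr (Or.inr (Or.inl k))
      intro y hy
      rcases hmem' y hy with h | h | h | h
      · rw [h, one_mul, mul_one]
      · rw [h]; exact hzx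
      · rw [h]; exact hwx
      · rw [h, mul_assoc, hwx, ← mul_assoc, hzx, mul_assoc]
    exact key y hy
  have hnE : n ∈ E := by
    -- `n = x w'`
    have hw' : x⁻¹ * n ∈ U := by
      have : x⁻¹ * n = x⁻¹ * u₀⁻¹ * x := by rw [hxun]; group
      rw [this]
      exact conj_mem' hxM (inv_mem hu₀)
    have hxi : x⁻¹ = x := inv_eq_of_mul_eq_one_right hxx
    have hni : n⁻¹ = n := inv_eq_of_mul_eq_one_right hnn
    have hc : x⁻¹ * n * x = x * (x⁻¹ * n) := by
      have h1 : (x⁻¹ * n)⁻¹ = x⁻¹ * n := inv_eq_of_mul_eq_one_right (hel _ hw')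
      have h3 : (x⁻¹ * n)⁻¹ = n * x := by rw [mul_inv_rev, inv_inv, hni]
      rw [h3] at h1
      rw [← h1]
      rw [mul_assoc, hxx, mul_one, h1, hxi, ← mul_assoc, hxx, one_mul]
    rcases hUc _ hw' hc with h | h
    · have : n = x := (inv_mul_eq_one.1 h).symm
      rw [this]; exact hxE
    · have : n = x * z := by rw [← h]; group
      rw [this]; exact mul_mem hxE hzE
  have hCE : ∀ w ∈ E, w ≠ 1 → IsPGroup 2 (centralizer ({w} : Set X)) := by
    intro w hw hw1
    have h1 := (hEmem w).1 hw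
    have h3 : s⁻¹ * w * s ≠ 1 := by
      intro h
      apply hw1
      have : w = s * (s⁻¹ * w * s) * s⁻¹ := by group
      rw [this, h]; group
    have h4 := h2 _ h1 h3
    have h5 : centralizer ({w} : Set X) = (centralizer ({s⁻¹ * w * s} : Set X)).map (MulAut.conj s).toMonoidHom := by
      ext y
      rw [mem_centralizer_singleton_iff]
      constructor
      · intro hy
        refine ⟨s⁻¹ * y * s, ?_, by simp [MulAut.conj_apply, mul_assoc]⟩
        change s⁻¹ * y * s ∈ centralizer ({s⁻¹ * w * s} : Set X)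
        rw [mem_centralizer_singleton_iff]
        calc s⁻¹ * y * s * (s⁻¹ * w * s) = s⁻¹ * (y * w) * s := by group
          _ = s⁻¹ * (w * y) * s := by rw [hy]
          _ = _ := by group
      · rintro ⟨y', hy', rfl⟩
        have hy'' : y' * (s⁻¹ * w * s) = s⁻¹ * w * s * y' := mem_centralizer_singleton_iff.1 hy'
        change s * y' * s⁻¹ * w = w * (s * y' * s⁻¹)
        calc s * y' * s⁻¹ * w = s * (y' * (s⁻¹ * w * s)) * s⁻¹ := by group
          _ = s * (s⁻¹ * w * s * y') * s⁻¹ := by rw [hy'']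
          _ = w * (s * y' * s⁻¹) := by group
    rw [h5]
    exact h4.map _
  -- the elements of `S₁`
  have hS₁el : ∀ w ∈ S₁, w ∈ U ∨ w * x ∈ U := by
    intro w hw
    have hwM := hS₁M hw
    have hwz : w * z = z * w := hzc w (hS₁S hw)
    have hxz : x * z = z * x := hEab x hxE z hzE
    -- an element of `M` commuting with `z` fixes `u` or maps it to `z u`
    have hact : ∀ y ∈ normalizer (U : Set X), y * z = z * y → y * u * y⁻¹ = u ∨ y * u * y⁻¹ = z * u := by
      intro y hy hyz
      rcases hmem _ (conj_mem hy huU) with h | h | h | h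
      · exact absurd (conj_eq_one_iff.1 h) hu1
      · exfalso
        apply huz
        have h3 : y * z * y⁻¹ = z := mul_inv_eq_iff_eq_mul.2 hyz
        have h4 : y * u * y⁻¹ = y * z * y⁻¹ := by rw [h, h3]
        exact mul_left_cancel (mul_right_cancel h4)
      · exact Or.inl h
      · exact Or.inr h
    have hcentU : ∀ y ∈ normalizer (U : Set X), y * z = z * y → y * u * y⁻¹ = u → y ∈ U := by
      intro y hy hyz hyu
      apply L.cent hX
      have c2 := (mul_inv_eq_iff_eq_mul.1 hyu).symm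
      intro w hw
      rcases hmem w hw with h | h | h | h
      · rw [h, one_mul, mul_one]
      · rw [h]; exact hyz.symm
      · rw [h]; exact c2
      · rw [h, mul_assoc, c2, ← mul_assoc, ← hyz, mul_assoc]
    rcases hact w hwM hwz with h | h
    · exact Or.inl (hcentU w hwM hwz h)
    · right
      have hxu : x * u * x⁻¹ = z * u := by
        rcases hact x hxM hxz with k | k
        · exact absurd (hcentU x hxM hxz k) hxU
        · exact k
      apply hcentU _ (mul_mem hwM hxM)
      · rw [mul_assoc, hxz, ← mul_assoc, hwz, mul_assoc]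
      · calc w * x * u * (w * x)⁻¹ = w * (x * u * x⁻¹) * w⁻¹ := by group
          _ = w * (z * u) * w⁻¹ := by rw [hxu]
          _ = (w * z * w⁻¹) * (w * u * w⁻¹) := by group
          _ = z * (z * u) := by rw [mul_inv_eq_iff_eq_mul.2 hwz, h]
          _ = u := by rw [← mul_assoc, hzz, one_mul]
  have hxS₁ : x ∈ S₁ := hES₁ x hxE
  have hxz : x * z = z * x := hEab x hxE z hzE
  have hxi : x⁻¹ = x := inv_eq_of_mul_eq_one_right hxx
  have hxu : x * u = z * u * x := by
    have hxuU := conj_mem hxM huU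
    rcases hmem _ hxuU with h | h | h | h
    · exact absurd (conj_eq_one_iff.1 h) hu1
    · exfalso
      apply huz
      have h3 : x * z * x⁻¹ = z := mul_inv_eq_iff_eq_mul.2 hxz
      have h4 : x * u * x⁻¹ = x * z * x⁻¹ := by rw [h, h3]
      exact mul_left_cancel (mul_right_cancel h4)
    · exfalso
      have h3 := hUc u huU (mul_inv_eq_iff_eq_mul.1 h).symm
      rcases h3 with h3 | h3
      · exact hu1 h3
      · exact huz h3
    · exact mul_inv_eq_iff_eq_mul.1 h
  -- involutions of `S₁` lie in `U ∪ E`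
  have hS₁inv : ∀ w ∈ S₁, w * w = 1 → w ∈ U ∨ w ∈ E := by
    intro w hw hww
    rcases hS₁el w hw with h | h
    · exact Or.inl h
    · right
      have hwi : w⁻¹ = w := inv_eq_of_mul_eq_one_right hww
      -- `w x ∈ U` commutes with `x`
      have h3 := hel _ h
      have h4 : (w * x)⁻¹ = w * x := inv_eq_of_mul_eq_one_right h3
      rw [mul_inv_rev, hwi, hxi] at h4
      have h5 : w * x * x = x * (w * x) := by rw [mul_assoc, hxx, mul_one, ← h4, ← mul_assoc, hxx, one_mul]
      rcases hUc _ h h5 with h6 | h6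
      · have : w = x := by
          have := eq_inv_of_mul_eq_one_left h6
          rwa [hxi] at this
        rw [this]; exact hxE
      · have : w = z * x := by rw [← h6, mul_assoc, hxx, mul_one]
        rw [this]; exact mul_mem hzE hxE
  -- the element `c = u x` of order four
  set c : X := u * x with hcdef
  have hcc : c * c = z := by
    rw [hcdef, show u * x * (u * x) = u * (x * u) * x by group, hxu,
      show u * (z * u * x) * x = (u * z) * (u * (x * x)) by group, hxx, mul_one, ← hzu, mul_assoc, huu, mul_one]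
  have hcS₁ : c ∈ S₁ := mul_mem (hUS₁ huU) hxS₁
  have hc4 : c ^ 4 = 1 := by
    rw [show (4 : ℕ) = 2 + 2 by norm_num, pow_add, pow_two, hcc, hzz]
  have hcP : IsPGroup 2 (zpowers c) := by
    apply S.isPGroup'.to_le
    rw [zpowers_le]; exact hS₁S hcS₁
  have hc1 : c ≠ 1 := by
    intro h; rw [h, mul_one] at hcc; exact hz1 hcc.symm
  have hcb : zpowers c ≠ ⊥ := by rw [Ne, zpowers_eq_bot]; exact hc1
  have hczp : ∀ y ∈ zpowers c, y = 1 ∨ y = z ∨ y = c ∨ y = c⁻¹ := by
    intro y hy
    obtain ⟨m, rfl⟩ := mem_zpowers_iff.1 hy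
    have h1 : c ^ m = c ^ (m % 4) := by
      conv_lhs => rw [← Int.emod_add_mul_ediv m 4, zpow_add, zpow_mul,
        show c ^ (4 : ℤ) = 1 by exact_mod_cast hc4, one_zpow, mul_one]
    have h3 : m % 4 = 0 ∨ m % 4 = 1 ∨ m % 4 = 2 ∨ m % 4 = 3 := by omega
    rw [h1]
    rcases h3 with h | h | h | h <;> rw [h]
    · left; exact zpow_zero c
    · right; right; left; exact zpow_one c
    · right; left; rw [← hcc]; exact zpow_two c
    · right; right; right
      have : c ^ (3 : ℤ) * c = 1 := by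
        rw [← zpow_add_one]; exact_mod_cast hc4
      exact eq_inv_of_mul_eq_one_left this
  have hNc : normalizer (zpowers c : Set X) = (S : Subgroup X) := by
    rw [← hNz]
    apply nor_eq hX hcb (twoP_of_isPGroup Nat.prime_two hcP) hzb (twoP_of_isPGroup Nat.prime_two hz2)
    intro y hy
    rw [mem_nor_invol hzz hz1]
    have h1 := conj_mem hy (mem_zpowers c)
    have h3 : y * z * y⁻¹ = z := by
      have h4 : y * z * y⁻¹ = (y * c * y⁻¹) * (y * c * y⁻¹) := by rw [← hcc]; group
      rw [h4]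
      rcases hczp _ h1 with h | h | h | h
      · exact absurd (conj_eq_one_iff.1 h) hc1
      · exfalso
        have : (y * c * y⁻¹) * (y * c * y⁻¹) = 1 := by rw [h, hzz]
        rw [← h4] at this
        exact hz1 (conj_eq_one_iff.1 this)
      · rw [h, hcc]
      · rw [h, ← mul_inv_rev, hcc]; exact inv_eq_of_mul_eq_one_right hzz
    exact mul_inv_eq_iff_eq_mul.1 h3
  have hcU : c ∉ U := by
    intro h
    have := hel c h
    rw [hcc] at this
    exact hz1 this
  have hNS₁ : normalizer (S₁ : Set X) = (S : Subgroup X) := by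
    rw [← hNc]
    have hS₁b : S₁ ≠ ⊥ := fun h => L.U_ne (le_bot_iff.1 (h ▸ hUS₁))
    apply nor_eq hX hS₁b (twoP_of_isPGroup Nat.prime_two hS₁2) hcb (twoP_of_isPGroup Nat.prime_two hcP)
    intro y hy
    apply mem_nor
    intro w hw
    obtain ⟨m, rfl⟩ := mem_zpowers_iff.1 hw
    rw [← conj_zpow]
    apply zpow_mem
    -- `y c y⁻¹` is an element of order four of `S₁`
    have h1 : y * c * y⁻¹ ∈ S₁ := conj_mem hy hcS₁
    have h3 : (y * c * y⁻¹) * (y * c * y⁻¹) ≠ 1 := by
      rw [show y * c * y⁻¹ * (y * c * y⁻¹) = y * (c * c) * y⁻¹ by group, hcc]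
      exact fun h => hz1 (conj_eq_one_iff.1 h)
    rcases hS₁el _ h1 with h | h
    · exact absurd (hel _ h) h3
    · have h4 : y * c * y⁻¹ = (y * c * y⁻¹ * x) * x := by
        rw [mul_assoc (y * c * y⁻¹) x x, hxx, mul_one]
      rcases hmem _ h with k | k | k | k
      · exfalso; apply h3; rw [h4, k, one_mul, hxx]
      · exfalso; apply h3; rw [h4, k]
        rw [show z * x * (z * x) = z * (x * z) * x by group, hxz,
          show z * (z * x) * x = (z * z) * (x * x) by group, hzz, hxx, mul_one]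
      · rw [h4, k, ← hcdef]; exact mem_zpowers c
      · rw [h4, k, mul_assoc, ← hcdef, ← hcc]
        exact mul_mem (mul_mem (mem_zpowers c) (mem_zpowers c)) (mem_zpowers c)
  -- `S₁` has index two in `S`
  have hSel : ∀ y ∈ (S : Subgroup X), y ∈ S₁ ∨ s⁻¹ * y ∈ S₁ := by
    intro y hy
    have hyn : y ∈ normalizer (S₁ : Set X) := by rw [hNS₁]; exact hy
    have h1 : y * u * y⁻¹ ∈ S₁ := conj_mem hyn (hUS₁ huU)
    have h3 : (y * u * y⁻¹) * (y * u * y⁻¹) = 1 := by
      rw [show y * u * y⁻¹ * (y * u * y⁻¹) = y * (u * u) * y⁻¹ by group, huu]; group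
    have hyz : y * z * y⁻¹ = z := mul_inv_eq_iff_eq_mul.2 (hzc y hy)
    rcases hS₁inv _ h1 h3 with h | h
    · left
      apply hSM y hy
      apply mem_nor
      intro w hw
      rcases hmem w hw with k | k | k | k
      · rw [k, mul_one, mul_inv_cancel]; exact one_mem _
      · rw [k, hyz]; exact hzU
      · rw [k]; exact h
      · rw [k, show y * (z * u) * y⁻¹ = (y * z * y⁻¹) * (y * u * y⁻¹) by group, hyz]
        exact mul_mem hzU h
    · right
      apply hSM _ (mul_mem (inv_mem hsS) hy)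
      apply mem_nor
      intro w hw
      have hEw : y * w * y⁻¹ ∈ E := by
        rcases hmem w hw with k | k | k | k
        · rw [k, mul_one, mul_inv_cancel]; exact one_mem _
        · rw [k, hyz]; exact hzE
        · rw [k]; exact h
        · rw [k, show y * (z * u) * y⁻¹ = (y * z * y⁻¹) * (y * u * y⁻¹) by group, hyz]
          exact mul_mem hzE h
      rw [hEmem] at hEw
      rw [show s⁻¹ * y * w * (s⁻¹ * y)⁻¹ = s⁻¹ * (y * w * y⁻¹) * s by group]
      exact hEw
  have hrel : S₁.relIndex (S : Subgroup X) = 2 := by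
    rw [Subgroup.relIndex, Subgroup.index_eq_two_iff]
    refine ⟨⟨s, hsS⟩⁻¹, fun b => ?_⟩
    by_cases hb : (b : X) ∈ S₁
    · right
      refine ⟨hb, fun hcon => hsS₁ ?_⟩
      have h3 : (b : X) * s⁻¹ ∈ S₁ := hcon
      have := mul_mem (inv_mem hb) h3
      rw [inv_mul_cancel_left] at this
      exact (inv_mem_iff (x := s)).1 this
    · left
      refine ⟨?_, hb⟩
      change (b : X) * s⁻¹ ∈ S₁
      rcases hSel b⁻¹ (inv_mem b.2) with h | h
      · exact absurd ((inv_mem_iff (x := (b : X))).1 h) hb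
      · have := inv_mem h
        rw [mul_inv_rev, inv_inv, inv_inv] at this
        -- `b s ∈ S₁`; normality of `S₁` in `S`
        have hsn' : s ∈ normalizer (S₁ : Set X) := hsn
        have hs2 : s * s ∈ S₁ := by
          rcases hSel (s * s) (mul_mem hsS hsS) with k | k
          · exact k
          · rw [inv_mul_cancel_left] at k; exact absurd k hsS₁
        have h5 := mul_mem this (inv_mem hs2)
        rwa [show (b : X) * s * (s * s)⁻¹ = b * s⁻¹ by group] at h5
  -- the elements of `M`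
  have hMel : ∀ m ∈ normalizer (U : Set X), ∃ i : ℕ, (g ^ i)⁻¹ * m ∈ S₁ := by
    intro m hm
    have hex : ∃ i : ℕ, m * z * m⁻¹ = g ^ i * z * (g ^ i)⁻¹ := by
      rcases hmem _ (conj_mem hm hzU) with h | h | h | h
      · exact absurd (conj_eq_one_iff.1 h) hz1
      · exact ⟨0, by rw [h]; simp⟩
      · exact ⟨1, by rw [h, pow_one]⟩
      · refine ⟨2, ?_⟩
        rw [h, ← hz₂e, hz₂, hudef, pow_two]; group
    obtain ⟨i, hi⟩ := hex
    refine ⟨i, hSM _ (hCz _ ?_) (mul_mem (inv_mem (pow_mem L.nor i)) hm)⟩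
    have h3 : m * z = g ^ i * z * (g ^ i)⁻¹ * m := mul_inv_eq_iff_eq_mul.1 hi
    rw [mul_assoc, h3]; group
  -- no normal subgroup of index two
  have hnoindex : ∀ T : Subgroup X, T.Normal → T.index = 2 → False := by
    intro T hT hT2
    have hTtop : T ≠ ⊤ := by
      intro h; rw [h, Subgroup.index_top] at hT2; exact absurd hT2 (by norm_num)
    have hgT : g ∈ T := by
      have h1 : g ^ orderOf g ∈ T := by rw [pow_orderOf_eq_one]; exact one_mem _
      obtain ⟨k, hk⟩ := hgodd
      rw [hk, pow_succ, pow_mul] at h1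
      have h3 : (g ^ 2) ^ k ∈ T := pow_mem (by rw [← hT2]; exact T.pow_index_mem g) k
      exact (T.mul_mem_cancel_left h3).1 h1
    have hcomm : ∀ w ∈ U, g * w * g⁻¹ * w⁻¹ ∈ T := by
      intro w _
      rw [show g * w * g⁻¹ * w⁻¹ = g * (w * g⁻¹ * w⁻¹) by group]
      exact mul_mem hgT (hT.conj_mem _ (inv_mem hgT) w)
    have hz₂T : z * u ∈ T := by
      have := hcomm z hzU
      rw [← hudef, show z⁻¹ = z from inv_eq_of_mul_eq_one_right hzz, ← hzu] at this
      exact this
    have hzT : z ∈ T := by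
      have := hcomm u huU
      rw [← hz₂, hz₂e, mul_assoc, mul_inv_cancel, mul_one] at this
      exact this
    have huT : u ∈ T := (T.mul_mem_cancel_left hzT).1 hz₂T
    have hUT : U ≤ T := by
      intro w hw
      rcases hmem w hw with h | h | h | h
      · rw [h]; exact one_mem _
      · rw [h]; exact hzT
      · rw [h]; exact huT
      · rw [h]; exact hz₂T
    have hxT : x ∈ T := by
      have h1 := hUT ((hEmem x).1 hxE)
      have := hT.conj_mem _ h1 s
      rwa [show s * (s⁻¹ * x * s) * s⁻¹ = x by group] at this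
    have hMT : normalizer (U : Set X) ≤ T := by
      intro m hm
      obtain ⟨i, hi⟩ := hMel m hm
      have h1 : (g ^ i)⁻¹ * m ∈ T := by
        rcases hS₁el _ hi with h | h
        · exact hUT h
        · have := mul_mem (hUT h) (inv_mem hxT)
          rwa [mul_inv_cancel_right] at this
      have := mul_mem (pow_mem hgT i) h1
      rwa [mul_inv_cancel_left] at this
    rcases hMco.le_iff.1 hMT with h | h
    · exact hTtop h
    · have h1 := nor_nor hX Nat.prime_two L.two L.U_ne
      rw [← h] at h1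
      have h3 : normalizer (T : Set X) = ⊤ := Subgroup.normalizer_eq_top_iff.2 hT
      rw [h3] at h1
      exact hTtop h1.symm
  -- the centralizers of all involutions are 2-groups
  have hall : ∀ i : X, i * i = 1 → i ≠ 1 → ∀ y, y * i = i * y → ∃ k : ℕ, y ^ 2 ^ k = 1 := by
    have hall₁ : ∀ i ∈ S₁, i * i = 1 → i ≠ 1 → ∀ y, y * i = i * y → ∃ k : ℕ, y ^ 2 ^ k = 1 := by
      intro i hi hii hi1 y hy
      have h1 : IsPGroup 2 (centralizer ({i} : Set X)) := by
        rcases hS₁inv i hi hii with h | h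
        · exact h2 i h hi1
        · exact hCE i h hi1
      obtain ⟨k, hk⟩ := h1 ⟨y, mem_centralizer_singleton_iff.2 hy⟩
      exact ⟨k, congrArg Subtype.val hk⟩
    -- transport by conjugation
    have htr : ∀ (i k : X), (∀ y, y * (k * i * k⁻¹) = k * i * k⁻¹ * y → ∃ m : ℕ, y ^ 2 ^ m = 1) →
        ∀ y, y * i = i * y → ∃ m : ℕ, y ^ 2 ^ m = 1 := by
      intro i k h y hy
      obtain ⟨m, hm⟩ := h (k * y * k⁻¹) (by
        calc k * y * k⁻¹ * (k * i * k⁻¹) = k * (y * i) * k⁻¹ := by group
          _ = k * (i * y) * k⁻¹ := by rw [hy]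
          _ = _ := by group)
      refine ⟨m, ?_⟩
      rw [conj_pow] at hm
      exact conj_eq_one_iff.1 hm
    have hallS : ∀ i ∈ (S : Subgroup X), i * i = 1 → i ≠ 1 → ∀ y, y * i = i * y → ∃ k : ℕ, y ^ 2 ^ k = 1 := by
      intro i hi hii hi1
      by_cases hiS₁ : i ∈ S₁
      · exact hall₁ i hiS₁ hii hi1
      · rcases Cfsg.Agent.S0111.result S S₁ hS₁S hrel i (orderOf_of_sq hii hi1) hi hiS₁ with
          ⟨T, hT, hT2, -⟩ | ⟨k, hk⟩
        · exact (hnoindex T hT hT2).elim
        · apply htr i k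
          apply hall₁ _ hk
          · rw [show k * i * k⁻¹ * (k * i * k⁻¹) = k * (i * i) * k⁻¹ by group, hii]; group
          · exact fun h => hi1 (conj_eq_one_iff.1 h)
    intro i hii hi1
    have hi2 : IsPGroup 2 (zpowers i) := isPGroup_zpowers (k := 1) (by rw [pow_one]; exact orderOf_of_sq hii hi1)
    obtain ⟨P, hP⟩ := hi2.exists_le_sylow
    obtain ⟨k, hk⟩ := MulAction.exists_smul_eq X P S
    apply htr i k
    apply hallS
    · have h1 : k * i * k⁻¹ ∈ ((k • P : Sylow 2 X) : Subgroup X) :=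
        ⟨i, hP (mem_zpowers i), rfl⟩
      rw [hk] at h1
      exact h1
    · rw [show k * i * k⁻¹ * (k * i * k⁻¹) = k * (i * i) * k⁻¹ by group, hii]; group
    · exact fun h => hi1 (conj_eq_one_iff.1 h)
  -- the normalizer of `⟨g⟩`
  have hgp3 : ∀ y ∈ zpowers g, y = 1 ∨ y = g ∨ y = g⁻¹ := by
    intro y hy
    obtain ⟨m, rfl⟩ := mem_zpowers_iff.1 hy
    have h1 : g ^ m = g ^ (m % 3) := by
      conv_lhs => rw [← Int.emod_add_mul_ediv m 3, zpow_add, zpow_mul,
        show g ^ (3 : ℤ) = 1 by exact_mod_cast hg3, one_zpow, mul_one]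
    have h3 : m % 3 = 0 ∨ m % 3 = 1 ∨ m % 3 = 2 := by omega
    rw [h1]
    rcases h3 with h | h | h <;> rw [h]
    · left; exact zpow_zero g
    · right; left; exact zpow_one g
    · right; right
      have : g ^ (2 : ℤ) * g = 1 := by
        rw [← zpow_add_one]; exact_mod_cast hg3
      exact eq_inv_of_mul_eq_one_left this
  have hnodd : ∀ i : X, i * i = 1 → i ≠ 1 → i * g ≠ g * i := by
    intro i hii hi1 hig
    obtain ⟨k, hk⟩ := hall i hii hi1 g hig.symm
    exact L.ne_one (eq_one_of_pow L.prime Nat.prime_two L.odd (by rw [← L.ord]; exact pow_orderOf_eq_one g) hk)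
  have hnC : ∀ y, y * n = n * y → y * g = g * y → y = 1 := by
    intro y hyn hyg
    by_contra hy1
    obtain ⟨k, hk⟩ := hall n hnn hn1 y hyn
    obtain ⟨m, hm1, hm2⟩ := exists_invol hk hy1
    exact hnodd _ hm1 hm2 ((show Commute y g from hyg).pow_left m)
  have hgM : zpowers g ≤ normalizer (U : Set X) := L.zle
  have hnng : zpowers n ≤ normalizer (zpowers g : Set X) := by
    rw [zpowers_le]
    apply mem_nor
    intro ρ hρ
    obtain ⟨m, rfl⟩ := mem_zpowers_iff.1 hρ
    rw [← conj_zpow, hng]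
    exact zpow_mem (inv_mem (mem_zpowers g)) m
  have hnP : IsPGroup 2 (zpowers n) := isPGroup_zpowers (k := 1) (by rw [pow_one]; exact orderOf_of_sq hnn hn1)
  have hLle : normalizer (zpowers g : Set X) ≤ normalizer (U : Set X) := by
    intro y hy
    have hns := nor_sup hX L.prime Nat.prime_two L.odd L.isP hnP L.zne hnng
    have hy' := hy
    rw [← hns] at hy'
    have h1 : y * n * y⁻¹ ∈ zpowers g ⊔ zpowers n :=
      conj_mem hy' (le_sup_right (a := zpowers g) (mem_zpowers n))
    obtain ⟨a, ha, b, hb, hab'⟩ := (mem_sup_nor hnng).1 h1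
    obtain ⟨k, hk⟩ := mem_zpowers_iff.1 hb
    have hsq : (y * n * y⁻¹) * (y * n * y⁻¹) = 1 := by
      rw [show y * n * y⁻¹ * (y * n * y⁻¹) = y * (n * n) * y⁻¹ by group, hnn]; group
    have hne1 : y * n * y⁻¹ ≠ 1 := fun h => hn1 (conj_eq_one_iff.1 h)
    have hbn : b = n := by
      rcases Int.even_or_odd' k with ⟨j, rfl | rfl⟩
      · exfalso
        rw [zpow_mul, zpow_ofNat, pow_two, hnn, one_zpow] at hk
        rw [← hk, mul_one] at hab'
        apply hne1
        refine inf_eq_bot L.prime Nat.prime_two L.odd L.isP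
          (isPGroup_zpowers (p := 2) (k := 1) (x := y * n * y⁻¹) (by rw [pow_one]; exact orderOf_of_sq hsq hne1))
          (hab' ▸ ha) (mem_zpowers _)
      · rw [zpow_add, zpow_mul, zpow_ofNat, pow_two, hnn, one_zpow, one_mul, zpow_one] at hk
        exact hk.symm
    rw [hbn] at hab'
    -- `a = b' ^ 2` with `b' ∈ ⟨g⟩`
    obtain ⟨b', hb', hbb⟩ : ∃ b' ∈ zpowers g, b' * b' = a := by
      rcases hgp3 a ha with h | h | h
      · exact ⟨1, one_mem _, by rw [h, mul_one]⟩
      · refine ⟨g⁻¹, inv_mem (mem_zpowers g), ?_⟩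
        rw [h]
        have : g * g * g = 1 := by rw [← hg3, pow_succ, pow_two]
        rw [← mul_inv_rev]
        exact (eq_inv_of_mul_eq_one_right this).symm
      · refine ⟨g, mem_zpowers g, ?_⟩
        rw [h]
        have : g * g * g = 1 := by rw [← hg3, pow_succ, pow_two]
        exact eq_inv_of_mul_eq_one_left this
    have hnb : n * b' = b'⁻¹ * n := by
      obtain ⟨m, rfl⟩ := mem_zpowers_iff.1 hb'
      have h3 : n * g ^ m * n⁻¹ = (g ^ m)⁻¹ := by rw [← conj_zpow, hng, inv_zpow]
      exact mul_inv_eq_iff_eq_mul.1 h3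
    set w := b'⁻¹ * y with hw
    have hywn : w * n = n * w := by
      have h3 : y * n = b' * b' * n * y := by
        have : y * n * y⁻¹ = b' * b' * n := by rw [hbb, hab']
        exact mul_inv_eq_iff_eq_mul.1 this
      calc w * n = b'⁻¹ * (y * n) := by rw [hw]; group
        _ = b'⁻¹ * (b' * b' * n * y) := by rw [h3]
        _ = b' * n * y := by group
        _ = n * (n⁻¹ * b' * n) * y := by group
        _ = n * (b'⁻¹ * y) := by
            have h4 : n⁻¹ * b' * n = b'⁻¹ := by
              have hni : n⁻¹ = n := inv_eq_of_mul_eq_one_right hnn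
              rw [hni, hnb, mul_assoc, hnn, mul_one]
            rw [h4]; group
        _ = n * w := by rw [hw]
    have hwn : w ∈ normalizer (zpowers g : Set X) := mul_mem (inv_mem (le_normalizer hb')) hy
    have hyw : y = b' * w := by rw [hw]; group
    have hwM : w ∈ normalizer (U : Set X) := by
      rcases hgp3 _ (conj_mem hwn (mem_zpowers g)) with h | h | h
      · exact absurd (conj_eq_one_iff.1 h) L.ne_one
      · have : w = 1 := hnC w hywn (mul_inv_eq_iff_eq_mul.1 h)
        rw [this]; exact one_mem _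
      · have h3 : n * w = 1 := by
          apply hnC
          · rw [mul_assoc, hywn]
          · have h4 : n * w * g * (n * w)⁻¹ = g := by
              calc n * w * g * (n * w)⁻¹ = n * (w * g * w⁻¹) * n⁻¹ := by group
                _ = (n * g * n⁻¹)⁻¹ := by rw [h]; group
                _ = g := by rw [hng, inv_inv]
            exact mul_inv_eq_iff_eq_mul.1 h4
        have : w = n⁻¹ := eq_inv_of_mul_eq_one_right h3
        rw [this]; exact inv_mem hnM
    rw [hyw]
    exact mul_mem (hgM hb') hwM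
  have hLco := hX _ L.zne (twoP_of_isPGroup L.prime L.isP)
  rcases hLco.le_iff.1 hLle with h | h
  · exact hMtop h
  · apply hz1
    apply b2 z hzU
    rw [← h]
    exact le_normalizer hzU

end Cfsg.Agent.H546.MaxNor
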