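import Cfsg.Agent.H546.MaxNorTwo

/-!
# Case I of the 2-local analysis: an involution of `U` commutes with an element of odd prime order

Then `U` is a four-group and a Sylow 2-subgroup, and the centralizer of the involution is dihedral of order `4 s`.
-/

set_option autoImplicit false
set_option linter.unusedSectionVars false

namespace Cfsg.Agent.H546.MaxNor

open Subgroup
open scoped Pointwise

variable {X : Type*} [Group X]

/-- the outcome of Case I -/
structure Out (U : Subgroup X) (g z t u : X) (s : ℕ) : Prop where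
  hz : z ∈ U
  hz1 : z ≠ 1
  hu : u ∈ U
  hu1 : u ≠ 1
  huz : u ≠ z
  mem : ∀ w ∈ U, w = 1 ∨ w = z ∨ w = u ∨ w = z * u
  prime : s.Prime
  odd : s ≠ 2
  ord : orderOf t = s
  tz : t * z = z * t
  inv : u * t * u⁻¹ = t⁻¹
  D : ∀ y, y ∈ normalizer (zpowers t : Set X) ↔ y * z = z * y
  cz : ∀ y, y * z = z * y → ∃ m : ℤ, ∃ w ∈ U, y = t ^ m * w
  trans : ∀ w ∈ U, w ≠ 1 → ∃ i : ℕ, i < 3 ∧ w = g ^ i * z * (g ^ i)⁻¹
  int : ∀ m ∈ normalizer (U : Set X), m * z = z * m → m ∈ U
  sylow : ∀ S : Subgroup X, IsPGroup 2 S → U ≤ S → S = U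
  M : ∀ m ∈ normalizer (U : Set X), ∃ i : ℕ, i < 3 ∧ ∃ w ∈ U, m = g ^ i * w

theorem caseI [Finite X] (hX : PM X) {U : Subgroup X} {g : X} {r v : ℕ} (L : Loc U g r v)
    {z t : X} {s : ℕ} (hz : z ∈ U) (hz1 : z ≠ 1) (hs : s.Prime) (hs2 : s ≠ 2) (ht : orderOf t = s)
    (htz : t * z = z * t) : ∃ u, Out U g z t u s := by
  have hel := (L.elem hX).1
  have hab := (L.elem hX).2
  have hzz := hel z hz
  have ht' : orderOf t = s ^ 1 := by rw [pow_one, ht]
  have ht1 : t ≠ 1 := by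
    intro h; rw [h, orderOf_one] at ht; exact hs.ne_one ht.symm
  have hTp : IsPGroup s (zpowers t) := isPGroup_zpowers ht'
  have hTb : zpowers t ≠ ⊥ := by rw [Ne, zpowers_eq_bot]; exact ht1
  -- normalizer of `⟨w⟩` for an involution `w` commuting with `t`
  have hN : ∀ w ∈ U, w ≠ 1 → w * t = t * w → ∀ y, y ∈ normalizer (zpowers t : Set X) ↔ y * w = w * y := by
    intro w hw hw1 hwt y
    have hww := hel w hw
    have h := nor_comm hX Nat.prime_two hs hs2.symm
      (isPGroup_zpowers (p := 2) (k := 1) (x := w) (by rw [pow_one]; exact orderOf_of_sq hww hw1))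
      hTp (by rw [Ne, zpowers_eq_bot]; exact hw1) hTb (comm_zpowers hwt)
    rw [← h]
    exact mem_nor_invol hww hw1
  have hD := hN z hz hz1 htz.symm
  have hUD : U ≤ normalizer (zpowers t : Set X) := fun w hw => (hD w).2 (hab w hw z hz)
  -- the centralizer of `t` in `U`
  have a0 : ∀ w ∈ U, w * t ≠ t * w → w * t * w⁻¹ = t⁻¹ := by
    intro w hw hne
    rcases invol_act hs hs2 ht' (hel w hw) (conj_mem (hUD hw) (mem_zpowers t)) with h | h
    · exact absurd (mul_inv_eq_iff_eq_mul.1 h) hne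
    · exact h
  have a1 : ∃ u ∈ U, u * t ≠ t * u := by
    by_contra hcon
    push Not at hcon
    have h1 := L.cent hX hcon
    have h2 := hel t h1
    have h3 : s ∣ 2 := by rw [← ht]; exact orderOf_dvd_of_pow_eq_one (by rw [pow_two]; exact h2)
    exact hs2 ((Nat.prime_dvd_prime_iff_eq hs Nat.prime_two).1 h3)
  have a2 : ∀ w₁ ∈ U, ∀ w₂ ∈ U, w₁ * t ≠ t * w₁ → w₂ * t ≠ t * w₂ → w₁ * w₂ * t = t * (w₁ * w₂) := by
    intro w₁ h₁ w₂ h₂ hn₁ hn₂
    have e₁ := a0 w₁ h₁ hn₁
    have e₂ := a0 w₂ h₂ hn₂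
    have : w₁ * w₂ * t * (w₁ * w₂)⁻¹ = t := by
      calc w₁ * w₂ * t * (w₁ * w₂)⁻¹ = w₁ * (w₂ * t * w₂⁻¹) * w₁⁻¹ := by group
        _ = w₁ * t⁻¹ * w₁⁻¹ := by rw [e₂]
        _ = (w₁ * t * w₁⁻¹)⁻¹ := by group
        _ = t := by rw [e₁, inv_inv]
    exact mul_inv_eq_iff_eq_mul.1 this
  have a3 : ∀ w ∈ U, w ≠ 1 → w * t = t * w → (g * w * g⁻¹) * t ≠ t * (g * w * g⁻¹) := by
    intro w hw hw1 hwt hcon
    have h1 := hN w hw hw1 hwt
    have hgw : g * w * g⁻¹ ∈ U := conj_mem L.nor hw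
    have hgw1 : g * w * g⁻¹ ≠ 1 := fun h => hw1 (conj_eq_one_iff.1 h)
    have h2 := hN _ hgw hgw1 hcon
    have h3 : g ∈ normalizer ((normalizer (zpowers t : Set X) : Subgroup X) : Set X) := by
      apply mem_nor
      intro y hy
      rw [h1] at hy
      rw [h2]
      calc g * y * g⁻¹ * (g * w * g⁻¹) = g * (y * w) * g⁻¹ := by group
        _ = g * (w * y) * g⁻¹ := by rw [hy]
        _ = g * w * g⁻¹ * (g * y * g⁻¹) := by group
    rw [nor_nor hX hs hTp hTb] at h3
    exact hz1 (L.free hX hz ((hD g).1 h3).symm)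
  have a4 : ∀ w ∈ U, w ≠ 1 → w * t = t * w → w = z := by
    intro w hw hw1 hwt
    by_contra hwz
    have hzw1 : z * w ≠ 1 := by
      intro h
      apply hwz
      have : z * w = z * z := by rw [h, hzz]
      exact mul_left_cancel this
    have hzwt : z * w * t = t * (z * w) := by
      rw [mul_assoc, hwt, ← mul_assoc, ← htz, mul_assoc]
    have h1 := a3 z hz hz1 htz.symm
    have h2 := a3 w hw hw1 hwt
    have h3 := a2 _ (conj_mem L.nor hz) _ (conj_mem L.nor hw) h1 h2
    have h4 := a3 _ (mul_mem hz hw) hzw1 hzwt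
    apply h4
    rw [show g * (z * w) * g⁻¹ = g * z * g⁻¹ * (g * w * g⁻¹) by group]
    exact h3
  obtain ⟨u, hu, hut⟩ := a1
  have hu1 : u ≠ 1 := by rintro rfl; exact hut (by rw [mul_one, one_mul])
  have huz : u ≠ z := by rintro rfl; exact hut htz.symm
  have huu := hel u hu
  have huzc := hab z hz u hu
  have hmem : ∀ w ∈ U, w = 1 ∨ w = z ∨ w = u ∨ w = z * u := by
    intro w hw
    by_cases hwt : w * t = t * w
    · by_cases hw1 : w = 1
      · exact Or.inl hw1
      · exact Or.inr (Or.inl (a4 w hw hw1 hwt))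
    · have h1 := a2 w hw u hu hwt hut
      by_cases hwu : w * u = 1
      · right; right; left
        have : w * u = u * u := by rw [hwu, huu]
        exact mul_right_cancel this
      · have h2 := a4 _ (mul_mem hw hu) hwu h1
        right; right; right
        rw [← h2, mul_assoc, huu, mul_one]
  have hinv := a0 u hu hut
  -- the intersection of the normalizers
  have a6 : ∀ m ∈ normalizer (U : Set X), m * z = z * m → m ∈ U := by
    intro m hm hmz
    apply L.cent hX
    intro w hw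
    by_cases hw1 : w = 1
    · rw [hw1, one_mul, mul_one]
    have hww := hel w hw
    have hW2 : IsPGroup 2 (zpowers w) :=
      isPGroup_zpowers (k := 1) (by rw [pow_one]; exact orderOf_of_sq hww hw1)
    have hWn : zpowers w ≤ normalizer (zpowers t : Set X) := by rw [zpowers_le]; exact hUD hw
    have hns := nor_sup hX hs Nat.prime_two hs2 hTp hW2 hTb hWn
    have hmD : m ∈ normalizer ((zpowers t ⊔ zpowers w : Subgroup X) : Set X) := by
      rw [hns]; exact (hD m).2 hmz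
    have h1 : m * w * m⁻¹ ∈ zpowers t ⊔ zpowers w :=
      conj_mem hmD (le_sup_right (a := zpowers t) (mem_zpowers w))
    obtain ⟨a, ha, b, hb, hab'⟩ := (mem_sup_nor hWn).1 h1
    have h2 : a ∈ U := by
      have : a = m * w * m⁻¹ * b⁻¹ := by rw [← hab', mul_inv_cancel_right]
      rw [this]
      exact mul_mem (conj_mem hm hw) (inv_mem ((zpowers_le.2 hw) hb))
    have h3 : a = 1 := inf_eq_bot hs Nat.prime_two hs2 hTp L.two ha h2
    rw [h3, one_mul] at hab'
    obtain ⟨n, hn⟩ := mem_zpowers_iff.1 hb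
    have hmw1 : m * w * m⁻¹ ≠ 1 := fun h => hw1 (conj_eq_one_iff.1 h)
    rcases Int.even_or_odd' n with ⟨k, rfl | rfl⟩
    · exfalso
      rw [zpow_mul, zpow_ofNat, pow_two, hww, one_zpow] at hn
      exact hmw1 (by rw [← hab', ← hn])
    · rw [zpow_add, zpow_mul, zpow_ofNat, pow_two, hww, one_zpow, one_mul, zpow_one] at hn
      have h4 : m * w * m⁻¹ = w := by rw [← hab', ← hn]
      exact (mul_inv_eq_iff_eq_mul.1 h4).symm
  -- `g` permutes the involutions of `U` transitively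
  set z₁ := g * z * g⁻¹ with hz₁
  set z₂ := g * z₁ * g⁻¹ with hz₂
  have hz₁U : z₁ ∈ U := conj_mem L.nor hz
  have hz₂U : z₂ ∈ U := conj_mem L.nor hz₁U
  have hz₁1 : z₁ ≠ 1 := fun h => hz1 (conj_eq_one_iff.1 h)
  have hz₂1 : z₂ ≠ 1 := fun h => hz₁1 (conj_eq_one_iff.1 h)
  have hz₁z : z₁ ≠ z := by
    intro h
    exact hz1 (L.free hX hz (mul_inv_eq_iff_eq_mul.1 h).symm)
  have hz₂z₁ : z₂ ≠ z₁ := by
    intro h
    exact hz₁1 (L.free hX hz₁U (mul_inv_eq_iff_eq_mul.1 h).symm)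
  have hz₂z : z₂ ≠ z := by
    intro h
    apply hz1
    apply L.free_sq hX hz
    rw [hz₂, hz₁, show g * (g * z * g⁻¹) * g⁻¹ = (g * g) * z * (g * g)⁻¹ by group] at h
    exact (mul_inv_eq_iff_eq_mul.1 h).symm
  have htrans : ∀ w ∈ U, w ≠ 1 → ∃ i : ℕ, i < 3 ∧ w = g ^ i * z * (g ^ i)⁻¹ := by
    intro w hw hw1
    have e0 : g ^ 0 * z * (g ^ 0)⁻¹ = z := by simp
    have e1 : g ^ 1 * z * (g ^ 1)⁻¹ = z₁ := by rw [pow_one]
    have e2 : g ^ 2 * z * (g ^ 2)⁻¹ = z₂ := by rw [hz₂, hz₁, pow_two]; group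
    rcases hmem w hw with h | h | h | h
    · exact absurd h hw1
    · exact ⟨0, by norm_num, by rw [e0]; exact h⟩
    · rcases hmem z₁ hz₁U with k | k | k | k
      · exact absurd k hz₁1
      · exact absurd k hz₁z
      · exact ⟨1, by norm_num, by rw [e1, h, k]⟩
      · rcases hmem z₂ hz₂U with l | l | l | l
        · exact absurd l hz₂1
        · exact absurd l hz₂z
        · exact ⟨2, by norm_num, by rw [e2, h, l]⟩
        · exact absurd (l.trans k.symm) hz₂z₁
    · rcases hmem z₁ hz₁U with k | k | k | k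
      · exact absurd k hz₁1
      · exact absurd k hz₁z
      · rcases hmem z₂ hz₂U with l | l | l | l
        · exact absurd l hz₂1
        · exact absurd l hz₂z
        · exact absurd (l.trans k.symm) hz₂z₁
        · exact ⟨2, by norm_num, by rw [e2, h, l]⟩
      · exact ⟨1, by norm_num, by rw [e1, h, k]⟩
  have a6' : ∀ w ∈ U, w ≠ 1 → ∀ m ∈ normalizer (U : Set X), m * w = w * m → m ∈ U := by
    intro w hw hw1 m hm hmw
    obtain ⟨i, -, hi⟩ := htrans w hw hw1
    have hgi : g ^ i ∈ normalizer (U : Set X) := pow_mem L.nor i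
    have h1 : (g ^ i)⁻¹ * m * g ^ i ∈ normalizer (U : Set X) := mul_mem (mul_mem (inv_mem hgi) hm) hgi
    have h2 : (g ^ i)⁻¹ * m * g ^ i * z = z * ((g ^ i)⁻¹ * m * g ^ i) := by
      have hzw : z = (g ^ i)⁻¹ * w * g ^ i := by rw [hi]; group
      rw [hzw]
      calc (g ^ i)⁻¹ * m * g ^ i * ((g ^ i)⁻¹ * w * g ^ i) = (g ^ i)⁻¹ * (m * w) * g ^ i := by group
        _ = (g ^ i)⁻¹ * (w * m) * g ^ i := by rw [hmw]
        _ = (g ^ i)⁻¹ * w * g ^ i * ((g ^ i)⁻¹ * m * g ^ i) := by group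
    have h3 := a6 _ h1 h2
    have h4 := conj_mem hgi h3
    rwa [show g ^ i * ((g ^ i)⁻¹ * m * g ^ i) * (g ^ i)⁻¹ = m by group] at h4
  have hM : ∀ m ∈ normalizer (U : Set X), ∃ i : ℕ, i < 3 ∧ ∃ w ∈ U, m = g ^ i * w := by
    intro m hm
    have h1 : m * z * m⁻¹ ∈ U := conj_mem hm hz
    have h2 : m * z * m⁻¹ ≠ 1 := fun h => hz1 (conj_eq_one_iff.1 h)
    obtain ⟨i, hi3, hi⟩ := htrans _ h1 h2
    refine ⟨i, hi3, (g ^ i)⁻¹ * m, ?_, by group⟩
    apply a6 _ (mul_mem (inv_mem (pow_mem L.nor i)) hm)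
    have h3 : m * z = g ^ i * z * (g ^ i)⁻¹ * m := mul_inv_eq_iff_eq_mul.1 hi
    rw [mul_assoc, h3]; group
  -- `U` is a Sylow 2-subgroup
  have hsyl : ∀ S : Subgroup X, IsPGroup 2 S → U ≤ S → S = U := by
    intro S hS hUS
    have hfact : Fact (Nat.Prime 2) := ⟨Nat.prime_two⟩
    by_contra hne
    have hnil : Group.IsNilpotent S := IsPGroup.isNilpotent hS
    have hnc : NormalizerCondition S := Group.normalizerCondition_of_isNilpotent
    have hlt' : U.subgroupOf S < ⊤ := by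
      rw [lt_top_iff_ne_top]
      intro htop
      rw [Subgroup.subgroupOf_eq_top] at htop
      exact hne (le_antisymm htop hUS)
    obtain ⟨w, hw, hwn⟩ := SetLike.exists_of_lt (hnc _ hlt')
    rw [Subgroup.mem_subgroupOf] at hwn
    have hwM : (w : X) ∈ normalizer (U : Set X) := by
      apply mem_nor
      intro x hx
      have := conj_mem hw (show (⟨x, hUS hx⟩ : S) ∈ U.subgroupOf S from hx)
      exact this
    apply hwn
    -- `w` commutes with a nontrivial element of `U`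
    obtain ⟨i, hi3, y, hy, hwy⟩ := hM w hwM
    obtain ⟨k, hk⟩ := hS w
    have hk' : (w : X) ^ 2 ^ k = 1 := congrArg Subtype.val hk
    have hgk : g ^ (i * 2 ^ k) ∈ U := by
      -- modulo `U`
      have hn : ∀ n : ℕ, ∃ y' ∈ U, (w : X) ^ n = g ^ (i * n) * y' := by
        intro n
        induction n with
        | zero => exact ⟨1, one_mem _, by simp⟩
        | succ n ih =>
          obtain ⟨y', hy', h⟩ := ih
          refine ⟨(g ^ i)⁻¹ * y' * g ^ i * y, mul_mem (conj_mem' (pow_mem L.nor i) hy') hy, ?_⟩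
          rw [pow_succ, h, hwy, mul_add, mul_one, pow_add]; group
      obtain ⟨y', hy', h⟩ := hn (2 ^ k)
      rw [hk'] at h
      have : g ^ (i * 2 ^ k) = y'⁻¹ := eq_inv_of_mul_eq_one_left h.symm
      rw [this]; exact inv_mem hy'
    have hgi : g ^ (i * 2 ^ k) = 1 := by
      have h1 := inf_eq_bot L.prime Nat.prime_two L.odd L.isP L.two (pow_mem (mem_zpowers g) (i * 2 ^ k)) hgk
      exact h1
    have hgi' : g ^ i = 1 := by
      have h1 : orderOf g ∣ i * 2 ^ k := orderOf_dvd_of_pow_eq_one hgi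
      rw [L.ord] at h1
      have h2 : Nat.Coprime (r ^ v) (2 ^ k) :=
        Nat.Coprime.pow _ _ ((Nat.coprime_primes L.prime Nat.prime_two).2 L.odd)
      have h3 := h2.dvd_of_dvd_mul_right h1
      rw [← L.ord] at h3
      exact orderOf_dvd_iff_pow_eq_one.1 h3
    rw [hwy, hgi', one_mul]; exact hy
  -- the centralizer of `z`
  have hcz : ∀ y, y * z = z * y → ∃ m : ℤ, ∃ w ∈ U, y = t ^ m * w := by
    intro y hyz
    have hW2 : IsPGroup 2 (zpowers u) :=
      isPGroup_zpowers (k := 1) (by rw [pow_one]; exact orderOf_of_sq huu hu1)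
    have hWn : zpowers u ≤ normalizer (zpowers t : Set X) := by rw [zpowers_le]; exact hUD hu
    have hns := nor_sup hX hs Nat.prime_two hs2 hTp hW2 hTb hWn
    have hyD : y ∈ normalizer ((zpowers t ⊔ zpowers u : Subgroup X) : Set X) := by
      rw [hns]; exact (hD y).2 hyz
    have h1 : y * u * y⁻¹ ∈ zpowers t ⊔ zpowers u :=
      conj_mem hyD (le_sup_right (a := zpowers t) (mem_zpowers u))
    obtain ⟨a, ha, b, hb, hab'⟩ := (mem_sup_nor hWn).1 h1
    obtain ⟨i, hi⟩ := mem_zpowers_iff.1 ha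
    obtain ⟨n, hn⟩ := mem_zpowers_iff.1 hb
    have hsq : (y * u * y⁻¹) * (y * u * y⁻¹) = 1 := by
      rw [show y * u * y⁻¹ * (y * u * y⁻¹) = y * (u * u) * y⁻¹ by group, huu]; group
    have hne1 : y * u * y⁻¹ ≠ 1 := fun h => hu1 (conj_eq_one_iff.1 h)
    have hbu : b = u := by
      rcases Int.even_or_odd' n with ⟨k, rfl | rfl⟩
      · exfalso
        rw [zpow_mul, zpow_ofNat, pow_two, huu, one_zpow] at hn
        rw [← hn, mul_one] at hab'
        apply hne1
        refine inf_eq_bot hs Nat.prime_two hs2 hTp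
          (isPGroup_zpowers (p := 2) (k := 1) (x := y * u * y⁻¹) (by rw [pow_one]; exact orderOf_of_sq hsq hne1))
          (hab' ▸ ha) (mem_zpowers _)
      · rw [zpow_add, zpow_mul, zpow_ofNat, pow_two, huu, one_zpow, one_mul, zpow_one] at hn
        exact hn.symm
    -- halve the exponent
    obtain ⟨k, hk⟩ : ∃ k : ℤ, t ^ (2 * k) = t ^ i := by
      obtain ⟨c, hc⟩ := hs.odd_of_ne_two hs2
      refine ⟨i * (c + 1), ?_⟩
      have : 2 * (i * ((c : ℤ) + 1)) = i + (s : ℤ) * i := by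
        have : (s : ℤ) = 2 * c + 1 := by exact_mod_cast hc
        rw [this]; ring
      rw [this, zpow_add, zpow_mul, zpow_natCast, ← ht, pow_orderOf_eq_one, one_zpow, mul_one]
    refine ⟨k, t ^ (-k) * y, ?_, by rw [← mul_assoc, ← zpow_add]; simp⟩
    have hut' : u * t ^ (-k) = t ^ k * u := by
      have h2 : u * t ^ (-k) * u⁻¹ = (u * t * u⁻¹) ^ (-k) := (conj_zpow).symm
      rw [hinv, inv_zpow', neg_neg] at h2
      exact mul_inv_eq_iff_eq_mul.1 h2
    have hyu : y * u = t ^ i * u * y := by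
      have : y * u * y⁻¹ = t ^ i * u := by rw [← hab', ← hi, hbu]
      exact mul_inv_eq_iff_eq_mul.1 this
    have c1 : u * (t ^ (-k) * y) = t ^ (-k) * y * u := by
      rw [← mul_assoc, hut', mul_assoc (t ^ (-k)), hyu, ← hk, ← mul_assoc, ← mul_assoc, ← zpow_add]
      congr 2
      congr 1
      ring
    have c2 : z * (t ^ (-k) * y) = t ^ (-k) * y * z := by
      have h3 : Commute z (t ^ (-k)) := (show Commute z t from htz.symm).zpow_right (-k)
      rw [← mul_assoc, h3.eq, mul_assoc, ← hyz, mul_assoc]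
    apply L.cent hX
    intro w hw
    rcases hmem w hw with h | h | h | h
    · rw [h, one_mul, mul_one]
    · rw [h]; exact c2
    · rw [h]; exact c1
    · rw [h, mul_assoc, c1, ← mul_assoc, c2, mul_assoc]
  exact ⟨u, hz, hz1, hu, hu1, huz, hmem, hs, hs2, ht, htz, hinv, hD, hcz, htrans, a6, hsyl, hM⟩

end Cfsg.Agent.H546.MaxNor
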