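import Cfsg.Agent.H546.MaxNorSimple
import Cfsg.Agent.S0508
import Cfsg.Agent.Lib.Cores

/-!
# The simple groups of `MaxNorSimple` are isomorphic to `PSL(2, F)`, `F` of odd order
-/

set_option autoImplicit false
set_option linter.unusedSectionVars false

namespace Cfsg.Agent.H546.MaxNor

open Subgroup
open scoped Pointwise

variable {X : Type*} [Group X]

theorem Out.card [Finite X] {U : Subgroup X} {g z t u : X} {s r v : ℕ} (hX : PM X) (L : Loc U g r v)
    (O : Out U g z t u s) : Nat.card U = 4 := by
  classical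
  have hzu : z * u ≠ 1 := by
    intro h
    have h1 := (L.elem hX).1 u O.hu
    apply O.huz
    have : z * u = u * u := by rw [h, h1]
    exact (mul_right_cancel this).symm
  have hzu2 : z * u ≠ z := fun h => O.hu1 (mul_eq_left.1 h)
  have hzu3 : z * u ≠ u := fun h => O.hz1 (mul_eq_right.1 h)
  have h1 : (U : Set X) = (({1, z, u, z * u} : Finset X) : Set X) := by
    ext w
    simp only [SetLike.mem_coe, Finset.coe_insert, Finset.coe_singleton, Set.mem_insert_iff,
      Set.mem_singleton_iff]
    constructor
    · intro hw; exact O.mem w hw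
    · rintro (h | h | h | h) <;> rw [h]
      · exact one_mem _
      · exact O.hz
      · exact O.hu
      · exact mul_mem O.hz O.hu
  have h2 : Nat.card U = (({1, z, u, z * u} : Finset X)).card := by
    change Nat.card (U : Set X) = _
    rw [h1, Nat.card_coe_set_eq, Set.ncard_coe_finset]
  rw [h2, Finset.card_insert_of_notMem, Finset.card_insert_of_notMem, Finset.card_insert_of_notMem,
    Finset.card_singleton]
  · simp only [Finset.mem_singleton]; exact hzu3.symm
  · simp only [Finset.mem_insert, Finset.mem_singleton, not_or]; exact ⟨O.huz.symm, hzu2.symm⟩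
  · simp only [Finset.mem_insert, Finset.mem_singleton, not_or]; exact ⟨O.hz1.symm, O.hu1.symm, hzu.symm⟩

theorem Out.klein [Finite X] {U : Subgroup X} {g z t u : X} {s r v : ℕ} (hX : PM X) (L : Loc U g r v)
    (O : Out U g z t u s) : IsKleinFour U := by
  refine ⟨O.card hX L, ?_⟩
  have h1 : Monoid.exponent U ∣ 2 := by
    rw [Monoid.exponent_dvd_iff_forall_pow_eq_one]
    intro x
    apply Subtype.ext
    rw [pow_two]
    exact (L.elem hX).1 x x.2
  rcases (Nat.dvd_prime Nat.prime_two).1 h1 with h | h
  · exfalso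
    rw [Monoid.exp_eq_one_iff] at h
    have h2 := Nat.card_eq_one_iff_unique.2 ⟨h, ⟨1⟩⟩
    rw [O.card hX L] at h2
    exact absurd h2 (by norm_num)
  · exact h

theorem exists_psl [Finite X] [IsSimpleGroup X] (hX : PM X) {U : Subgroup X} {g z t u : X} {s r v : ℕ}
    (L : Loc U g r v) (O : Out U g z t u s) :
    ∃ (F : Type) (_ : Field F) (_ : Fintype F), Odd (Fintype.card F) ∧
      Nonempty (X ≃* Matrix.ProjectiveSpecialLinearGroup (Fin 2) F) := by
  have hf2 : Fact (Nat.Prime 2) := ⟨Nat.prime_two⟩
  let P : Sylow 2 X := ⟨U, L.two, fun {W} hW hle => O.sylow W hW hle⟩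
  have hel := (L.elem hX).1
  have hab := (L.elem hX).2
  have hs3 : 2 < s := by
    have h1 := O.prime.two_le
    have h2 := O.odd
    omega
  have ht1 : t ≠ 1 := by
    intro h
    have h1 := O.ord
    rw [h, orderOf_one] at h1
    exact O.prime.ne_one h1.symm
  have htp : IsPGroup s (zpowers t) := isPGroup_zpowers (k := 1) (by rw [pow_one]; exact O.ord)
  have hsodd : Odd s := O.prime.odd_of_ne_two O.odd
  -- the core of the centralizer
  set C : Subgroup X := centralizer ({z} : Set X) with hC
  have hCmem : ∀ y, y ∈ C ↔ y * z = z * y := fun y => mem_centralizer_singleton_iff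
  have htC : zpowers t ≤ C := by
    rw [zpowers_le, hCmem]; exact O.tz
  have hO : (Cfsg.oddCore C).map C.subtype = zpowers t := by
    apply le_antisymm
    · rintro _ ⟨y, hy, rfl⟩
      -- an element of odd order
      have hcop := Cfsg.Agent.Lib.Cores.pPrimeCore_coprime (G := C) 2
      have hNn := Cfsg.Agent.Lib.Cores.pPrimeCore_normal (G := C) 2
      have htcore : ∀ m : ℤ, (⟨t ^ m, htC (zpow_mem (mem_zpowers t) m)⟩ : C) ∈ Cfsg.oddCore C := by
        have hle : (zpowers t).subgroupOf C ≤ Cfsg.oddCore C := by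
          apply Cfsg.Agent.Lib.Cores.le_pPrimeCore
          · refine ⟨fun x hx c => ?_⟩
            have h1 : (c : X) ∈ normalizer (zpowers t : Set X) := (O.D c).2 ((hCmem c).1 c.2)
            exact conj_mem (x := (x : X)) h1 hx
          · rw [Nat.card_congr (Subgroup.subgroupOfEquivOfLe htC).toEquiv, Nat.card_zpowers, O.ord]
            exact (Nat.coprime_primes O.prime Nat.prime_two).2 O.odd
        intro m
        exact hle (zpow_mem (mem_zpowers t) m)
      obtain ⟨m, w, hw, hyw⟩ := O.cz y ((hCmem y).1 y.2)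
      have hwC : w ∈ C := (hCmem w).2 (hab w hw z O.hz)
      have h1 : (⟨w, hwC⟩ : C) ∈ Cfsg.oddCore C := by
        have h2 : (⟨w, hwC⟩ : C) = (⟨t ^ (-m), htC (zpow_mem (mem_zpowers t) (-m))⟩ : C) * y := by
          apply Subtype.ext
          change w = t ^ (-m) * (y : X)
          rw [hyw, ← mul_assoc, ← zpow_add]; simp
        rw [h2]
        exact mul_mem (htcore _) hy
      have h3 : w = 1 := by
        by_contra hw1
        have h4 : orderOf (⟨⟨w, hwC⟩, h1⟩ : Cfsg.oddCore C) = 2 := by
          apply orderOf_of_sq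
          · apply Subtype.ext
            apply Subtype.ext
            exact hel w hw
          · intro h
            exact hw1 (congrArg (fun x : Cfsg.oddCore C => ((x : C) : X)) h)
        have h5 : 2 ∣ Nat.card (Cfsg.oddCore C) := h4 ▸ orderOf_dvd_natCard _
        exact (Nat.Prime.coprime_iff_not_dvd Nat.prime_two).1 hcop.symm h5
      change (y : X) ∈ zpowers t
      rw [hyw, h3, mul_one]
      exact zpow_mem (mem_zpowers t) m
    · intro y hy
      have hle : (zpowers t).subgroupOf C ≤ Cfsg.oddCore C := by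
        apply Cfsg.Agent.Lib.Cores.le_pPrimeCore
        · refine ⟨fun x hx c => ?_⟩
          have h1 : (c : X) ∈ normalizer (zpowers t : Set X) := (O.D c).2 ((hCmem c).1 c.2)
          exact conj_mem (x := (x : X)) h1 hx
        · rw [Nat.card_congr (Subgroup.subgroupOfEquivOfLe htC).toEquiv, Nat.card_zpowers, O.ord]
          exact (Nat.coprime_primes O.prime Nat.prime_two).2 O.odd
      exact ⟨⟨y, htC hy⟩, hle hy, rfl⟩
  have hut : u * t ≠ t * u := by
    intro h
    have h1 := O.inv
    rw [h, mul_inv_cancel_right] at h1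
    have h2 : t * t = 1 := by nth_rewrite 2 [h1]; exact mul_inv_cancel t
    have h3 : orderOf t ∣ 2 := orderOf_dvd_of_pow_eq_one (by rw [pow_two]; exact h2)
    rw [O.ord] at h3
    exact O.odd ((Nat.prime_dvd_prime_iff_eq O.prime Nat.prime_two).1 h3)
  have hcent : ∀ w ∈ U, w ∈ centralizer (zpowers t : Set X) ↔ w * t = t * w := by
    intro w _
    rw [mem_centralizer_iff]
    constructor
    · intro h; exact (h t (mem_zpowers t)).symm
    · intro h x hx
      exact (comm_zpowers h w (mem_zpowers w) x hx).symm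
  have hzt : z * t = t * z := O.tz.symm
  have huc : ∀ w ∈ U, w * t = t * w → w = 1 ∨ w = z := by
    intro w hw hwt
    rcases O.mem w hw with h | h | h | h
    · exact Or.inl h
    · exact Or.inr h
    · rw [h] at hwt; exact absurd hwt hut
    · exfalso
      apply hut
      rw [h] at hwt
      have h1 : u = z * (z * u) := by rw [← mul_assoc, hel z O.hz, one_mul]
      rw [h1, mul_assoc, hwt, ← mul_assoc, hzt, mul_assoc]
  have hinvt : ∀ w ∈ U, w * t ≠ t * w → w * t * w⁻¹ = t⁻¹ := by
    intro w hw hwt
    rcases O.mem w hw with h | h | h | h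
    · exact absurd (by rw [h, one_mul, mul_one]) hwt
    · rw [h] at hwt; exact absurd hzt hwt
    · rw [h]; exact O.inv
    · rw [h, show z * u * t * (z * u)⁻¹ = z * (u * t * u⁻¹) * z⁻¹ by group, O.inv]
      rw [show z * t⁻¹ * z⁻¹ = (z * t * z⁻¹)⁻¹ by group, hzt, mul_inv_cancel_right]
  apply Cfsg.Agent.S0508.result P 2 le_rfl
    (by
      have := O.klein hX L
      exact IsKleinFour.nonempty_mulEquiv (G₁ := U) (G₂ := DihedralGroup 2))
    z (orderOf_of_sq (hel z O.hz) O.hz1) O.hz (fun w hw => hab w hw z O.hz) (zpowers t) hO.symm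
  · intro _
    have hinf : ∀ w, w ∈ ((P : Subgroup X) ⊓ centralizer (zpowers t : Set X) : Subgroup X) ↔ w ∈ zpowers z := by
      intro w
      constructor
      · rintro ⟨hw, hwc⟩
        rcases huc w hw ((hcent w hw).1 hwc) with h | h
        · rw [h]; exact one_mem _
        · rw [h]; exact mem_zpowers z
      · intro hw
        have hzm : z ∈ ((P : Subgroup X) ⊓ centralizer (zpowers t : Set X) : Subgroup X) :=
          ⟨O.hz, (hcent z O.hz).2 hzt⟩
        exact (zpowers_le.2 hzm) hw
    have heq : ((P : Subgroup X) ⊓ centralizer (zpowers t : Set X) : Subgroup X) = zpowers z :=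
      Subgroup.ext hinf
    rw [heq]
    refine ⟨inferInstance, ?_⟩
    have hcz : Nat.card (zpowers z) = 2 := by
      rw [Nat.card_zpowers]; exact orderOf_of_sq (hel z O.hz) O.hz1
    have hle : zpowers z ≤ U := by rw [zpowers_le]; exact O.hz
    have h2 := Subgroup.card_mul_index ((zpowers z).subgroupOf U)
    rw [Nat.card_congr (Subgroup.subgroupOfEquivOfLe hle).toEquiv, hcz, O.card hX L] at h2
    change ((zpowers z).subgroupOf U).index = 2
    omega
  · intro w hw hwc y hy
    obtain ⟨m, rfl⟩ := mem_zpowers_iff.1 hy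
    rw [← conj_zpow, hinvt w hw (fun h => hwc ((hcent w hw).2 h)), inv_zpow]
  · intro Y hY hY1
    have hYt : Y = zpowers t := by
      have h1 : Nat.card (zpowers t) = s := by rw [Nat.card_zpowers, O.ord]
      have h2 : Nat.card Y ∣ s := h1 ▸ Subgroup.card_dvd_of_le hY
      rcases (Nat.dvd_prime O.prime).1 h2 with h | h
      · exact absurd (Subgroup.card_eq_one.1 h) hY1
      · exact Subgroup.eq_of_le_of_card_ge hY (by rw [h, h1])
    rw [hYt]
    intro y hy
    rw [← hC, hCmem]
    exact (O.D y).1 hy

end Cfsg.Agent.H546.MaxNor
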