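import Cfsg.Agent.H546.MaxNorCard
import Cfsg.Agent.H546.MaxNorDed
import Cfsg.Agent.S0003
import Cfsg.Agent.LieClassical.FieldTransfer
import Cfsg.Agent.SignalizersComponents.ComponentExists

/-!
# The quotient by the solvable radical
-/

set_option autoImplicit false
set_option linter.unusedSectionVars false

namespace Cfsg.Agent.H546.MaxNor

open Subgroup
open scoped Pointwise
open Cfsg.Agent.SignalizersComponents.ComponentExists

variable {G : Type*} [Group G]

/-- The data of the solvable radical `R` of a group as in the theorem. -/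
structure Rad (R : Subgroup G) : Prop where
  normal : R.Normal
  solv : Group.IsSolvable R
  max : ∀ N : Subgroup G, N.Normal → Group.IsSolvable N → N ≤ R
  ne : R ≠ ⊤
  nor : ∀ H : Subgroup G, TwoP H → ¬ H ≤ R → IsCoatom (normalizer (H : Set G))

theorem card_of_twoP {n : ℕ} (hn : n ≠ 0) {p q : ℕ} (h : ∀ r : ℕ, r.Prime → r ∣ n → r = p ∨ r = q) :
    ∃ a b, n = p ^ a * q ^ b := by
  by_cases hp : p.Prime
  · refine ⟨n.factorization p, (n / p ^ n.factorization p).primeFactorsList.length, ?_⟩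
    have h1 : n / p ^ n.factorization p ≠ 0 := by
      have := Nat.ordCompl_pos p hn
      omega
    have h2 : n / p ^ n.factorization p = q ^ (n / p ^ n.factorization p).primeFactorsList.length := by
      apply Nat.eq_prime_pow_of_unique_prime_dvd h1
      intro d hd hdd
      rcases h d hd (hdd.trans (Nat.ordCompl_dvd n p)) with h3 | h3
      · subst h3
        exact absurd hdd (Nat.not_dvd_ordCompl hp hn)
      · exact h3
    rw [← h2]
    exact (Nat.ordProj_mul_ordCompl_eq_self n p).symm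
  · refine ⟨0, n.primeFactorsList.length, ?_⟩
    rw [pow_zero, one_mul]
    apply Nat.eq_prime_pow_of_unique_prime_dvd hn
    intro d hd hdd
    rcases h d hd hdd with h3 | h3
    · subst h3; exact absurd hd hp
    · exact h3

theorem solv_of_twoP [Finite G] {H : Subgroup G} (hH : TwoP H) : Group.IsSolvable H := by
  obtain ⟨p, q, hp, hq, h⟩ := hH
  obtain ⟨a, b, hab⟩ := card_of_twoP (Nat.card_pos (α := H)).ne' h
  exact Cfsg.Agent.S0144.result p q a b hp hq hab

theorem exists_rad [Finite G] (hG : ¬ Group.IsSolvable G)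
    (h : ∀ H : Subgroup G, ¬ H.IsSubnormal → TwoP H → IsCoatom (normalizer (H : Set G))) :
    ∃ R : Subgroup G, Rad R := by
  obtain ⟨R, hRc, hRs, hRm⟩ := exists_solvableRadical G
  refine ⟨R, ⟨inferInstance, hRs, hRm, ?_, ?_⟩⟩
  · intro htop
    apply hG
    rw [htop] at hRs
    exact Group.isSolvable_of_surjective (f := (Subgroup.topEquiv (G := G)).toMonoidHom)
      Subgroup.topEquiv.surjective
  · intro H hH hHR
    refine h H ?_ hH
    intro hsub
    obtain ⟨N, hN, hNs, hHN⟩ := exists_normal_isSolvable_of_isSubnormal hsub (solv_of_twoP hH)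
    exact hHR (hHN.trans (hRm N hN hNs))

/-- a solvable subgroup not contained in the radical generates with it a subgroup which is not normal -/
theorem Rad.not_normal [Finite G] {R : Subgroup G} (D : Rad R) {H : Subgroup G} (hs : Group.IsSolvable H)
    (hH : ¬ H ≤ R) : ¬ (H ⊔ R).Normal := by
  intro hn
  have := D.normal
  exact hH (le_sup_left.trans (D.max _ hn (isSolvable_sup_of_normal hs D.solv)))

theorem Rad.nor_sup [Finite G] {R : Subgroup G} (D : Rad R) {H : Subgroup G} (h2 : TwoP H)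
    (hH : ¬ H ≤ R) : normalizer (H : Set G) = normalizer ((H ⊔ R : Subgroup G) : Set G) := by
  have hn := D.normal
  have hle : normalizer (H : Set G) ≤ normalizer ((H ⊔ R : Subgroup G) : Set G) := by
    intro g hg
    rw [mem_normalizer_iff_map_conj_eq] at hg ⊢
    rw [Subgroup.map_sup, hg]
    congr 1
    exact mem_normalizer_iff_map_conj_eq.1 (by rw [Subgroup.normalizer_eq_top R]; exact mem_top g)
  rcases (D.nor H h2 hH).le_iff.1 hle with h | h
  · exact absurd (Subgroup.normalizer_eq_top_iff.1 h) (D.not_normal (solv_of_twoP h2) hH)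
  · exact h.symm

theorem Rad.le_nor [Finite G] {R : Subgroup G} (D : Rad R) {H : Subgroup G} (h2 : TwoP H)
    (hH : ¬ H ≤ R) : R ≤ normalizer (H : Set G) := by
  rw [D.nor_sup h2 hH]
  exact le_sup_right.trans le_normalizer

theorem isCoatom_of_comap {Y : Type*} [Group Y] {f : G →* Y} (hf : Function.Surjective f) {K : Subgroup Y}
    (h : IsCoatom (K.comap f)) : IsCoatom K := by
  refine ⟨fun htop => h.1 (by rw [htop, Subgroup.comap_top]), fun L hL => ?_⟩
  have h6 : K.comap f < L.comap f := (Subgroup.comap_lt_comap_of_surjective hf).2 hL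
  rw [← Subgroup.map_comap_eq_self_of_surjective hf L, h.2 _ h6, Subgroup.map_top_of_surjective _ hf]

theorem Rad.pm [Finite G] {R : Subgroup G} (D : Rad R) [R.Normal] : PM (G ⧸ R) := by
  intro Hb hHb hHb2
  have hπ : Function.Surjective (QuotientGroup.mk' R) := QuotientGroup.mk'_surjective R
  set π := QuotientGroup.mk' R with hpi
  set H1 : Subgroup G := Hb.comap π with hH1
  have hRH1 : R ≤ H1 := by
    intro x hx
    change π x ∈ Hb
    have h1 : π x = 1 := (QuotientGroup.eq_one_iff x).2 hx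
    rw [h1]; exact one_mem _
  have hmap : H1.map π = Hb := Subgroup.map_comap_eq_self_of_surjective hπ Hb
  have hRs0 := D.solv
  have hRs : Group.IsSolvable (R.subgroupOf H1) :=
    Group.isSolvable_of_surjective (f := (Subgroup.subgroupOfEquivOfLe hRH1).symm.toMonoidHom)
      (Subgroup.subgroupOfEquivOfLe hRH1).symm.surjective
  let ψ : H1 →* G ⧸ R := π.comp H1.subtype
  have hψr : ψ.range = Hb := by
    rw [MonoidHom.range_comp, Subgroup.range_subtype, hmap]
  have hψk : ψ.ker = R.subgroupOf H1 := by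
    rw [← MonoidHom.comap_ker, QuotientGroup.ker_mk']; rfl
  have hsol : Group.IsSolvable H1 := by
    have hHbs : Group.IsSolvable ψ.range := by rw [hψr]; exact solv_of_twoP hHb2
    have hks : Group.IsSolvable ψ.ker := by rw [hψk]; exact hRs
    rw [Group.isSolvable_iff_subgroup_quotient ψ.ker]
    exact ⟨hks, Group.isSolvable_of_surjective (f := (QuotientGroup.quotientKerEquivRange ψ).symm.toMonoidHom)
      (QuotientGroup.quotientKerEquivRange ψ).symm.surjective⟩
  obtain ⟨p, q, hp, hq, hpq⟩ := hHb2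
  have hN0 : Nat.card H1 ≠ 0 := Nat.card_pos.ne'
  set N := Nat.card H1 with hN
  set N1 := N / p ^ N.factorization p with hN1
  have hN1' : N1 ≠ 0 := (Nat.ordCompl_pos p hN0).ne'
  set N2 := N1 / q ^ N1.factorization q with hN2
  have hN2' : N2 ≠ 0 := (Nat.ordCompl_pos q hN1').ne'
  have hNe : N = (p ^ N.factorization p * q ^ N1.factorization q) * N2 := by
    rw [mul_assoc, hN2, Nat.ordProj_mul_ordCompl_eq_self, hN1, Nat.ordProj_mul_ordCompl_eq_self]
  have hpN2 : ¬ p ∣ N2 := fun h => Nat.not_dvd_ordCompl hp hN0 (h.trans (Nat.ordCompl_dvd N1 q))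
  have hqN2 : ¬ q ∣ N2 := Nat.not_dvd_ordCompl hq hN1'
  have hcop : (p ^ N.factorization p * q ^ N1.factorization q).Coprime N2 :=
    Nat.Coprime.mul_left (Nat.Coprime.pow_left _ ((Nat.Prime.coprime_iff_not_dvd hp).2 hpN2))
      (Nat.Coprime.pow_left _ ((Nat.Prime.coprime_iff_not_dvd hq).2 hqN2))
  obtain ⟨X0, hX0⟩ := Cfsg.Agent.S0003.result _ _ hNe hcop
  have hX0i : X0.index = N2 := by
    have h1 := Subgroup.card_mul_index X0
    rw [hX0] at h1
    have h2 : 0 < p ^ N.factorization p * q ^ N1.factorization q :=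
      Nat.mul_pos (pow_pos hp.pos _) (pow_pos hq.pos _)
    exact Nat.eq_of_mul_eq_mul_left h2 (h1.trans hNe)
  have hRi : (R.subgroupOf H1).index = Nat.card Hb := by
    rw [← hψk, Subgroup.index_ker, hψr]
  have hsup : X0 ⊔ R.subgroupOf H1 = ⊤ := by
    rw [← Subgroup.index_eq_one]
    by_contra hne
    obtain ⟨s, hs, hsd⟩ := Nat.exists_prime_and_dvd hne
    have h1 : s ∣ N2 := by
      rw [← hX0i]; exact hsd.trans (Subgroup.index_dvd_of_le le_sup_left)
    have h2 : s ∣ Nat.card Hb := by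
      rw [← hRi]; exact hsd.trans (Subgroup.index_dvd_of_le le_sup_right)
    rcases hpq s hs h2 with h3 | h3
    · exact hpN2 (h3 ▸ h1)
    · exact hqN2 (h3 ▸ h1)
  set X1 : Subgroup G := X0.map H1.subtype with hX1
  have hsup' : X1 ⊔ R = H1 := by
    have h1 := congrArg (fun K => Subgroup.map H1.subtype K) hsup
    simp only [Subgroup.map_sup] at h1
    rw [Subgroup.subgroupOf_map_subtype, inf_eq_left.2 hRH1, ← MonoidHom.range_eq_map,
      Subgroup.range_subtype] at h1
    exact h1
  have hX1c : Nat.card X1 = p ^ N.factorization p * q ^ N1.factorization q := by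
    rw [← hX0]; exact Subgroup.card_map_of_injective H1.subtype_injective
  have hX1t : TwoP X1 := by
    refine ⟨p, q, hp, hq, fun r hr hd => ?_⟩
    rw [hX1c] at hd
    rcases (Nat.Prime.dvd_mul hr).1 hd with h | h
    · exact Or.inl ((Nat.prime_dvd_prime_iff_eq hr hp).1 (hr.dvd_of_dvd_pow h))
    · exact Or.inr ((Nat.prime_dvd_prime_iff_eq hr hq).1 (hr.dvd_of_dvd_pow h))
  have hX1R : ¬ X1 ≤ R := by
    intro h
    apply hHb
    rw [sup_eq_right.2 h] at hsup'
    rw [← hmap, ← hsup', eq_bot_iff]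
    rintro _ ⟨x, hx, rfl⟩
    rw [Subgroup.mem_bot]
    exact (QuotientGroup.eq_one_iff x).2 hx
  have h1 := D.nor X1 hX1t hX1R
  rw [D.nor_sup hX1t hX1R, hsup'] at h1
  apply isCoatom_of_comap hπ
  rw [Subgroup.comap_normalizer_eq_of_surjective Hb hπ]
  exact h1

theorem psl_thirteen {F : Type*} [Field F] [Fintype F] (hF : Fintype.card F = 13) :
    Nonempty (Matrix.ProjectiveSpecialLinearGroup (Fin 2) F ≃*
      Matrix.ProjectiveSpecialLinearGroup (Fin 2) (ZMod 13)) := by
  have hfact : Fact (Nat.Prime 13) := ⟨by norm_num⟩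
  let e : Matrix.ProjectiveSpecialLinearGroup (Fin 2) (ZMod 13) ≃*
      Matrix.ProjectiveSpecialLinearGroup (Fin 2) F :=
    Cfsg.Agent.LieClassical.FieldTransfer.pslCongr (ZMod.ringEquivOfPrime F (by norm_num) hF)
  exact ⟨e.symm⟩

theorem sl_thirteen {F : Type*} [Field F] [Fintype F] (hF : Fintype.card F = 13) :
    Nonempty (Matrix.SpecialLinearGroup (Fin 2) F ≃* Matrix.SpecialLinearGroup (Fin 2) (ZMod 13)) := by
  have hfact : Fact (Nat.Prime 13) := ⟨by norm_num⟩
  let e : Matrix.SpecialLinearGroup (Fin 2) (ZMod 13) ≃* Matrix.SpecialLinearGroup (Fin 2) F :=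
    Cfsg.Agent.LieClassical.FieldTransfer.slCongr (ZMod.ringEquivOfPrime F (by norm_num) hF)
  exact ⟨e.symm⟩

/-- the quotient by the solvable radical is `PSL(2, 13)` -/
theorem Rad.psl [Finite G] {R : Subgroup G} (D : Rad R) [R.Normal] :
    IsSimpleGroup (G ⧸ R) ∧
    (∃ (U : Subgroup (G ⧸ R)) (g : G ⧸ R) (r v : ℕ) (z t u : G ⧸ R) (s : ℕ), Loc U g r v ∧ Out U g z t u s) ∧
    ∃ (F : Type) (_ : Field F) (_ : Fintype F), Fintype.card F = 13 ∧
      Nonempty ((G ⧸ R) ≃* Matrix.ProjectiveSpecialLinearGroup (Fin 2) F) := by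
  have hnt : Nontrivial (G ⧸ R) := by
    obtain ⟨x, hx⟩ : ∃ x, x ∉ R := by
      by_contra h
      push Not at h
      exact D.ne ((Subgroup.eq_top_iff' R).2 h)
    exact ⟨⟨(QuotientGroup.mk x : G ⧸ R), 1, fun h => hx ((QuotientGroup.eq_one_iff x).1 h)⟩⟩
  obtain ⟨hs, U, g, r, v, z, t, u, s, L, O⟩ := main_simple D.pm
  obtain ⟨F, iF, iFF, hodd, ⟨e⟩⟩ := exists_psl D.pm L O
  have hnt' : Nontrivial (Matrix.ProjectiveSpecialLinearGroup (Fin 2) F) := e.injective.nontrivial
  have hF := card_eq_thirteen (PM.congr e D.pm) hodd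
  exact ⟨hs, ⟨U, g, r, v, z, t, u, s, L, O⟩, F, iF, iFF, hF, ⟨e⟩⟩

end Cfsg.Agent.H546.MaxNor
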