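import Cfsg.Agent.H546.MaxNorEven
import Cfsg.Agent.S0071
import Cfsg.Agent.S0205
import Cfsg.Agent.Lib.NormalHall

/-!
# A nontrivial group in which the nontrivial `{p, q}`-subgroups have maximal normalizers is simple
-/

set_option autoImplicit false
set_option linter.unusedSectionVars false

namespace Cfsg.Agent.H546.MaxNor

open Subgroup
open scoped Pointwise

variable {X : Type*} [Group X]

/-- an element of order prime to 2 outside a subgroup has a power of prime power order outside it -/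
theorem exists_ppow [Finite X] (C : Subgroup X) (n : ℕ) : ∀ g : X, orderOf g = n → 0 < n → g ∉ C →
    ∃ h ∈ zpowers g, ∃ r v : ℕ, r.Prime ∧ orderOf h = r ^ v ∧ h ∉ C := by
  induction n using Nat.recOnPosPrimePosCoprime with
  | prime_pow p k hp hk =>
    intro g hg _ hgC
    exact ⟨g, mem_zpowers g, p, k, hp, hg, hgC⟩
  | zero => intro g _ h; exact absurd h (lt_irrefl 0)
  | one =>
    intro g hg _ hgC
    rw [orderOf_eq_one_iff] at hg
    exact absurd (hg ▸ one_mem C) hgC
  | coprime a b ha hb hab iha ihb =>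
    intro g hg _ hgC
    by_cases h1 : g ^ a ∈ C
    · by_cases h2 : g ^ b ∈ C
      · exfalso
        apply hgC
        have h3 : g = (g ^ a) ^ (Nat.gcdA a b) * (g ^ b) ^ (Nat.gcdB a b) := by
          rw [← zpow_natCast g a, ← zpow_natCast g b, ← zpow_mul, ← zpow_mul, ← zpow_add, ← Nat.gcd_eq_gcd_ab,
            hab.gcd_eq_one]
          simp
        rw [h3]
        exact mul_mem (zpow_mem h1 _) (zpow_mem h2 _)
      · have h3 : orderOf (g ^ b) = a := by
          rw [orderOf_pow, hg, Nat.gcd_eq_right (Dvd.intro_left a rfl), Nat.mul_div_cancel _ (by omega)]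
        obtain ⟨h, hh, r, v, hr, hv, hhC⟩ := iha (g ^ b) h3 (by omega) h2
        exact ⟨h, (zpowers_le.2 (pow_mem (mem_zpowers g) b)) hh, r, v, hr, hv, hhC⟩
    · have h3 : orderOf (g ^ a) = b := by
        rw [orderOf_pow, hg, Nat.gcd_eq_right (Dvd.intro b rfl), Nat.mul_div_cancel_left _ (by omega)]
      obtain ⟨h, hh, r, v, hr, hv, hhC⟩ := ihb (g ^ a) h3 (by omega) h1
      exact ⟨h, (zpowers_le.2 (pow_mem (mem_zpowers g) a)) hh, r, v, hr, hv, hhC⟩

/-- there is no nontrivial normal `p`-subgroup -/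
theorem not_normal_p [Finite X] (hX : PM X) {p : ℕ} (hp : p.Prime) {V : Subgroup X} (hV : IsPGroup p V)
    (hV1 : V ≠ ⊥) (hn : V.Normal) : False :=
  (hX V hV1 (twoP_of_isPGroup hp hV)).1 (Subgroup.normalizer_eq_top_iff.2 hn)

/-- there is no nontrivial solvable normal subgroup -/
theorem not_solv [Finite X] (hX : PM X) {N : Subgroup X} (hN : N.Normal) (hN1 : N ≠ ⊥) :
    ¬ Group.IsSolvable N := by
  intro hs
  obtain ⟨A, ⟨hAn, hA1, hAs⟩, hAmin⟩ := Set.Finite.exists_minimalFor
    (fun W : Subgroup X => Nat.card W)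
    {W : Subgroup X | W.Normal ∧ W ≠ ⊥ ∧ Group.IsSolvable W}
    (Set.toFinite _) ⟨N, hN, hN1, hs⟩
  have hAnt : Nontrivial A := (Subgroup.nontrivial_iff_ne_bot A).2 hA1
  have hlt : commutator A < ⊤ := Group.IsSolvable.commutator_lt_top_of_nontrivial A
  have hlt' : ⁅A, A⁆ < A := by
    rw [← Subgroup.map_subtype_commutator]
    have h1 : (commutator A).map A.subtype < (⊤ : Subgroup A).map A.subtype :=
      (Subgroup.map_lt_map_iff_of_injective A.subtype_injective).2 hlt
    rwa [← MonoidHom.range_eq_map, Subgroup.range_subtype] at h1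
  have hcb : ⁅A, A⁆ = ⊥ := by
    by_contra hne
    have hle : ⁅A, A⁆ ≤ A := hlt'.le
    have h1 : Nat.card A ≤ Nat.card (⁅A, A⁆ : Subgroup X) :=
      hAmin (j := ⁅A, A⁆) ⟨Subgroup.commutator_normal A A, hne,
        Group.isSolvable_of_isSolvable_injective (Subgroup.inclusion_injective hle)⟩
        (Nat.card_le_card_of_injective (Subgroup.inclusion hle) (Subgroup.inclusion_injective _))
    exact hlt'.ne (Subgroup.eq_of_le_of_card_ge hle h1)
  have hab : ∀ x ∈ A, ∀ y ∈ A, x * y = y * x := by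
    intro x hx y hy
    have h1 := Subgroup.commutator_mem_commutator hx hy
    rw [hcb, Subgroup.mem_bot] at h1
    exact (commutatorElement_eq_one_iff_mul_comm.1 h1)
  -- a prime divisor
  have hcard : Nat.card A ≠ 1 := by
    intro h
    exact hA1 (Subgroup.card_eq_one.1 h)
  obtain ⟨p, hp, hpd⟩ := Nat.exists_prime_and_dvd hcard
  have hfact : Fact p.Prime := ⟨hp⟩
  obtain ⟨x, hx⟩ := exists_prime_orderOf_dvd_card' p hpd
  let V : Subgroup X :=
    { carrier := {y | y ∈ A ∧ y ^ p = 1}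
      one_mem' := ⟨one_mem _, one_pow p⟩
      mul_mem' := by
        rintro a b ⟨ha, ha2⟩ ⟨hb, hb2⟩
        refine ⟨mul_mem ha hb, ?_⟩
        rw [(show Commute a b from hab a ha b hb).mul_pow, ha2, hb2, mul_one]
      inv_mem' := by
        rintro a ⟨ha, ha2⟩
        exact ⟨inv_mem ha, by rw [inv_pow, ha2, inv_one]⟩ }
  apply not_normal_p hX hp (V := V)
  · rintro ⟨y, hy⟩
    exact ⟨1, Subtype.ext (by rw [pow_one]; exact hy.2)⟩
  · intro h
    have h1 : (x : X) ∈ V := ⟨x.2, by
      have := pow_orderOf_eq_one x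
      rw [hx] at this
      exact congrArg Subtype.val this⟩
    rw [h, Subgroup.mem_bot] at h1
    have h2 : x = 1 := Subtype.ext h1
    rw [h2, orderOf_one] at hx
    exact hp.ne_one hx.symm
  · refine ⟨fun y hy c => ⟨hAn.conj_mem y hy.1 c, ?_⟩⟩
    rw [conj_pow, hy.2, mul_one, mul_inv_cancel]

theorem main_simple [Finite X] [Nontrivial X] (hX : PM X) :
    IsSimpleGroup X ∧ ∃ (U : Subgroup X) (g : X) (r v : ℕ) (z t u : X) (s : ℕ),
      Loc U g r v ∧ Out U g z t u s := by
  obtain ⟨T, ⟨hTn, hT1⟩, hTmin'⟩ := Set.Finite.exists_minimalFor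
    (fun W : Subgroup X => Nat.card W)
    {W : Subgroup X | W.Normal ∧ W ≠ ⊥}
    (Set.toFinite _) ⟨⊤, Subgroup.normal_top, top_ne_bot⟩
  have hTmin : ∀ N : Subgroup X, N.Normal → N ≤ T → N ≠ ⊥ → N = T := by
    intro N hN hle h1
    exact Subgroup.eq_of_le_of_card_ge hle (hTmin' (j := N) ⟨hN, h1⟩
      (Nat.card_le_card_of_injective (Subgroup.inclusion hle) (Subgroup.inclusion_injective _)))
  have hTs := not_solv hX hTn hT1
  have hf2 : Fact (Nat.Prime 2) := ⟨Nat.prime_two⟩
  let P : Sylow 2 T := default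
  -- `T` has no normal 2-complement
  have hnc : ¬ ∀ Q : Subgroup T, Q ≤ (P : Subgroup T) → ∀ g ∈ normalizer (Q : Set T),
      Nat.Coprime (orderOf g) 2 → g ∈ centralizer (Q : Set T) := by
    intro hall
    obtain ⟨N, hNn, hNc⟩ := (Cfsg.Agent.S0071.result P).2 hall
    have hidx : N.index = Nat.card (P : Subgroup T) := hNc.symm.index_eq_card
    have hidx' : (P : Subgroup T).index = Nat.card N := hNc.index_eq_card
    have hPc : (Nat.card (P : Subgroup T)).Coprime (Nat.card N) := by
      rw [← hidx']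
      obtain ⟨k, hk⟩ := IsPGroup.iff_card.1 P.isPGroup'
      rw [hk]
      exact Nat.Coprime.pow_left k ((Nat.Prime.coprime_iff_not_dvd Nat.prime_two).2 P.not_dvd_index)
    have hcop : (Nat.card N).Coprime N.index := by rw [hidx]; exact hPc.symm
    have hnor := Lib.NormalHall.normal_map_subtype_of_coprime T N hcop
    have hcardmap : Nat.card (N.map T.subtype) = Nat.card N :=
      Subgroup.card_map_of_injective T.subtype_injective
    by_cases hb : N.map T.subtype = ⊥
    · have hN1 : Nat.card N = 1 := by rw [← hcardmap, hb, Subgroup.card_bot]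
      rw [hN1] at hidx'
      have hPtop : (P : Subgroup T) = ⊤ := Subgroup.index_eq_one.1 hidx'
      have hT2 : IsPGroup 2 T := by
        have h1 := P.isPGroup'
        intro x
        obtain ⟨k, hk⟩ := h1 ⟨x, by rw [hPtop]; exact Subgroup.mem_top x⟩
        exact ⟨k, congrArg Subtype.val hk⟩
      exact not_normal_p hX Nat.prime_two hT2 hT1 hTn
    · have hNT := hTmin _ hnor (Subgroup.map_subtype_le N) hb
      have hcT : Nat.card T = Nat.card N := by rw [← hcardmap, hNT]
      have hodd : Odd (Nat.card T) := by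
        rw [hcT, ← hidx', ← Nat.not_even_iff_odd, even_iff_two_dvd]
        exact P.not_dvd_index
      exact hTs (Cfsg.Agent.S0205.result hodd)
  push Not at hnc
  obtain ⟨Q, hQP, g₀, hg₀n, hg₀o, hg₀c⟩ := hnc
  obtain ⟨h, hh, r, v, hr, hv, hhC⟩ := exists_ppow (centralizer (Q : Set T)) (orderOf g₀) g₀ rfl
    (orderOf_pos g₀) hg₀c
  have hhn : h ∈ normalizer (Q : Set T) := (zpowers_le.2 hg₀n) hh
  have hh1 : h ≠ 1 := by rintro rfl; exact hhC (one_mem _)
  have hr2 : r ≠ 2 := by
    rintro rfl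
    have h1 : orderOf h ∣ orderOf g₀ := orderOf_dvd_of_mem_zpowers hh
    rw [hv] at h1
    have h2 : v ≠ 0 := by
      rintro rfl
      rw [pow_zero, orderOf_eq_one_iff] at hv
      exact hh1 hv
    have h3 : 2 ∣ orderOf g₀ := (dvd_pow_self 2 h2).trans h1
    exact (Nat.Prime.coprime_iff_not_dvd Nat.prime_two).1 hg₀o.symm h3
  set U : Subgroup X := Q.map T.subtype with hU
  have hUT : U ≤ T := Subgroup.map_subtype_le Q
  have hUmem : ∀ x : T, (x : X) ∈ U ↔ x ∈ Q := by
    intro x
    rw [hU]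
    constructor
    · rintro ⟨y, hy, hyx⟩
      rwa [← Subtype.ext hyx]
    · intro hx; exact ⟨x, hx, rfl⟩
  have L : Loc U (h : X) r v := by
    refine ⟨?_, hr, hr2, ?_, ?_, ?_⟩
    · exact (P.isPGroup'.to_le hQP).map T.subtype
    · rw [← hv]; exact orderOf_submonoid h
    · apply mem_nor
      intro x hx
      have h1 := (hUmem ⟨x, hUT hx⟩).1 hx
      exact (hUmem _).2 (conj_mem hhn h1)
    · by_contra hcon
      push Not at hcon
      apply hhC
      rw [mem_centralizer_iff]
      intro q hq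
      exact Subtype.ext (hcon q ((hUmem q).2 hq))
  -- an involution commuting with an element of odd prime order
  have hcase : ∃ z ∈ U, z ≠ 1 ∧ ∃ (t : X) (s : ℕ), s.Prime ∧ s ≠ 2 ∧ orderOf t = s ∧ t * z = z * t := by
    by_contra hcon
    push Not at hcon
    apply caseII hX L
    intro z hz hz1
    rintro ⟨y, hy⟩
    by_contra hno
    push Not at hno
    have hy' : y * z = z * y := mem_centralizer_singleton_iff.1 hy
    have hord : ∀ k, orderOf y ≠ 2 ^ k := by
      intro k hk
      apply hno k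
      apply Subtype.ext
      change y ^ 2 ^ k = 1
      rw [← hk]; exact pow_orderOf_eq_one y
    obtain ⟨s, hs, hs2, hsd⟩ : ∃ s : ℕ, s.Prime ∧ s ≠ 2 ∧ s ∣ orderOf y := by
      by_contra hno
      push Not at hno
      have : ∃ k, orderOf y = 2 ^ k := by
        refine ⟨(orderOf y).primeFactorsList.length, Nat.eq_prime_pow_of_unique_prime_dvd (orderOf_pos y).ne' ?_⟩
        intro d hd hdd
        by_contra hd2
        exact hno d hd hd2 hdd
      obtain ⟨k, hk⟩ := this
      exact hord k hk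
    obtain ⟨c, hc⟩ := hsd
    have ht : orderOf (y ^ c) = s := by
      rw [orderOf_pow, hc, Nat.gcd_eq_right (Dvd.intro_left s rfl)]
      exact Nat.mul_div_cancel _ (Nat.pos_of_ne_zero (by rintro rfl; exact (orderOf_pos y).ne' (by rw [hc]; rfl)))
    exact hcon z hz hz1 (y ^ c) s hs hs2 ht ((show Commute y z from hy').pow_left c)
  obtain ⟨z, hz, hz1, t, s, hs, hs2, ht, htz⟩ := hcase
  obtain ⟨u, O⟩ := caseI hX L hz hz1 hs hs2 ht htz
  -- `T = X`
  have hNT : normalizer (U : Set X) ≤ T := by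
    intro m hm
    obtain ⟨i, -, w, hw, rfl⟩ := O.M m hm
    exact mul_mem (pow_mem h.2 i) (hUT hw)
  have hTtop : T = ⊤ := by
    rw [eq_top_iff]
    intro x _
    -- the Sylow subgroups `U` and `x U x⁻¹` of `T`
    have hUsyl : ∀ W : Subgroup T, IsPGroup 2 W → U.subgroupOf T ≤ W → W = U.subgroupOf T := by
      intro W hW hle
      have h1 : W.map T.subtype = U := by
        apply O.sylow _ (hW.map _)
        intro y hy
        exact ⟨⟨y, hUT hy⟩, hle (show (⟨y, hUT hy⟩ : T) ∈ U.subgroupOf T from hy), rfl⟩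
      ext y
      rw [Subgroup.mem_subgroupOf, ← h1]
      constructor
      · intro hy; exact ⟨y, hy, rfl⟩
      · rintro ⟨y', hy', hyy⟩
        rwa [← Subtype.ext hyy]
    have hU2 : IsPGroup 2 (U.subgroupOf T) := L.two.comap_of_injective T.subtype T.subtype_injective
    let PU : Sylow 2 T := ⟨U.subgroupOf T, hU2, fun {W} hW hle => hUsyl W hW hle⟩
    set U' : Subgroup X := U.map (MulAut.conj x).toMonoidHom with hU'
    have hU'T : U' ≤ T := by
      rintro _ ⟨y, hy, rfl⟩
      exact hTn.conj_mem y (hUT hy) x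
    have hU'2 : IsPGroup 2 (U'.subgroupOf T) := (L.two.map _).comap_of_injective T.subtype T.subtype_injective
    obtain ⟨P', hP'⟩ := hU'2.exists_le_sylow
    obtain ⟨τ, hτ⟩ := MulAction.exists_smul_eq T P' PU
    have h1 : (τ : X) * x ∈ normalizer (U : Set X) := by
      apply mem_nor
      intro y hy
      have h2 : x * y * x⁻¹ ∈ U' := ⟨y, hy, rfl⟩
      have h3 : (⟨x * y * x⁻¹, hU'T h2⟩ : T) ∈ (P' : Subgroup T) := hP' h2
      have h4 : τ * ⟨x * y * x⁻¹, hU'T h2⟩ * τ⁻¹ ∈ ((τ • P' : Sylow 2 T) : Subgroup T) :=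
        ⟨_, h3, rfl⟩
      rw [hτ] at h4
      have h5 : (τ : X) * (x * y * x⁻¹) * (τ : X)⁻¹ ∈ U := h4
      rwa [show (τ : X) * x * y * (τ * x)⁻¹ = τ * (x * y * x⁻¹) * (τ : X)⁻¹ by group]
    have h2 := hNT h1
    exact (T.mul_mem_cancel_left τ.2).1 h2
  refine ⟨⟨fun N hN => ?_⟩, U, h, r, v, z, t, u, s, L, O⟩
  by_cases hb : N = ⊥
  · exact Or.inl hb
  · right
    rw [← hTtop]
    exact hTmin N hN (hTtop ▸ le_top) hb

end Cfsg.Agent.H546.MaxNor
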