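import Cfsg.Agent.H546.MaxNorPSL
import Cfsg.Agent.S0144
import Cfsg.Agent.S0253
import Cfsg.Agent.S0804
import Cfsg.Agent.S0811
import Cfsg.Agent.S0812
import Cfsg.Agent.ClassicalGeometry.PSL2Basic

/-!
# If the nontrivial `{p, q}`-subgroups of `PSL(2, F)` have maximal normalizers then `|F| = 13`
-/

set_option autoImplicit false
set_option linter.unusedSectionVars false

namespace Cfsg.Agent.H546.MaxNor

open Subgroup
open scoped Pointwise

variable {X : Type*} [Group X]

theorem PM.congr {Y : Type*} [Group Y] (e : X ≃* Y) (hX : PM X) : PM Y := by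
  intro H hH hH2
  have h1 : H.comap e.toMonoidHom ≠ ⊥ := by
    intro h
    apply hH
    rw [eq_bot_iff]
    intro y hy
    have h2 : e.symm y ∈ H.comap e.toMonoidHom := by
      change e (e.symm y) ∈ H
      rw [e.apply_symm_apply]; exact hy
    rw [h, Subgroup.mem_bot] at h2
    rw [Subgroup.mem_bot]
    have := congrArg e h2
    rwa [e.apply_symm_apply, map_one] at this
  have hcard : Nat.card (H.comap e.toMonoidHom) = Nat.card H :=
    Nat.card_congr
      { toFun := fun x => ⟨e x, x.2⟩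
        invFun := fun y => ⟨e.symm y, by
          change e (e.symm y) ∈ H
          rw [e.apply_symm_apply]; exact y.2⟩
        left_inv := fun x => Subtype.ext (e.symm_apply_apply x)
        right_inv := fun y => Subtype.ext (e.apply_symm_apply y) }
  have h2 : TwoP (H.comap e.toMonoidHom) := by
    obtain ⟨p, q, hp, hq, h⟩ := hH2
    exact ⟨p, q, hp, hq, fun r hr hd => h r hr (by rwa [hcard] at hd)⟩
  have h3 := hX _ h1 h2
  have h4 : normalizer ((H.comap e.toMonoidHom : Subgroup X) : Set X) =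
      (normalizer (H : Set Y)).comap e.toMonoidHom :=
    (Subgroup.comap_normalizer_eq_of_surjective H e.surjective).symm
  rw [h4] at h3
  have h5 : ∀ K : Subgroup Y, (K.comap e.toMonoidHom).map e.toMonoidHom = K := fun K =>
    Subgroup.map_comap_eq_self_of_surjective e.surjective K
  refine ⟨fun htop => h3.1 ?_, fun K hK => ?_⟩
  · rw [htop, Subgroup.comap_top]
  · have h6 : (normalizer (H : Set Y)).comap e.toMonoidHom < K.comap e.toMonoidHom := by
      rw [Subgroup.comap_lt_comap_of_surjective e.surjective]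
      exact hK
    have h7 := h3.2 _ h6
    rw [← h5 K, h7, Subgroup.map_top_of_surjective _ e.surjective]

/-- a dihedral subgroup of order `2 m` with `3 ∣ m` has `m ∣ 6` -/
theorem dihedral_three [Finite X] (hX : PM X) {H : Subgroup X} {m : ℕ} (e : H ≃* DihedralGroup m)
    (h3 : 3 ∣ m) (hm0 : 0 < m) : m ∣ 6 := by
  have : NeZero m := ⟨hm0.ne'⟩
  set ρ : X := ((e.symm (DihedralGroup.r 1) : H) : X) with hρ
  set σ : X := ((e.symm (DihedralGroup.sr 0) : H) : X) with hσ
  have hσσ : σ * σ = 1 := by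
    have h1 : e.symm (DihedralGroup.sr 0) * e.symm (DihedralGroup.sr 0) = (1 : H) := by
      rw [← map_mul, DihedralGroup.sr_mul_sr, sub_self, ← DihedralGroup.one_def, map_one]
    exact congrArg Subtype.val h1
  have hrel : σ * ρ = ρ⁻¹ * σ := by
    have h1 : e.symm (DihedralGroup.sr 0) * e.symm (DihedralGroup.r 1) =
        (e.symm (DihedralGroup.r 1))⁻¹ * e.symm (DihedralGroup.sr 0) := by
      rw [← map_inv, ← map_mul, ← map_mul]
      congr 1
      rw [DihedralGroup.sr_mul_r, DihedralGroup.inv_r, DihedralGroup.r_mul_sr]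
      congr 1
      ring
    exact congrArg Subtype.val h1
  have hordρ : orderOf ρ = m := by
    have h1 : orderOf ρ = orderOf (e.symm (DihedralGroup.r 1)) := by
      rw [hρ]; exact orderOf_submonoid _
    rw [h1, MulEquiv.orderOf_eq, DihedralGroup.orderOf_r_one]
  have hσρ : σ ∉ zpowers ρ := by
    intro h
    obtain ⟨k, hk⟩ := mem_zpowers_iff.1 h
    have h1 : (e.symm (DihedralGroup.r 1)) ^ k = e.symm (DihedralGroup.sr 0) := Subtype.ext (by
      rw [← hσ, ← hk, hρ]; rfl)
    rw [← map_zpow] at h1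
    have h2 := e.symm.injective h1
    have h4 : ∀ k : ℤ, ∃ j : ZMod m, (DihedralGroup.r 1 : DihedralGroup m) ^ k = DihedralGroup.r j := by
      intro k
      have h5 : (DihedralGroup.r 1 : DihedralGroup m) ^ k ∈ zpowers (DihedralGroup.r 1 : DihedralGroup m) :=
        zpow_mem (mem_zpowers _) k
      obtain ⟨n, hn⟩ := (isOfFinOrder_of_finite _).mem_powers_iff_mem_zpowers.2 h5
      refine ⟨n, ?_⟩
      change (DihedralGroup.r 1 : DihedralGroup m) ^ n = _ at hn
      rw [← hn, DihedralGroup.r_one_pow]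
    obtain ⟨j, hj⟩ := h4 k
    rw [hj] at h2
    cases h2
  obtain ⟨c, hc⟩ := h3
  set τ : X := ρ ^ c with hτ
  have hc0 : 0 < c := by
    rcases Nat.eq_zero_or_pos c with h | h
    · rw [h, mul_zero] at hc; omega
    · exact h
  have hordτ : orderOf τ = 3 ^ 1 := by
    rw [hτ, orderOf_pow, hordρ, hc, Nat.gcd_eq_right (Dvd.intro_left 3 rfl), Nat.mul_div_cancel _ hc0, pow_one]
  have hτ1 : τ ≠ 1 := by
    intro h; rw [h, orderOf_one] at hordτ; norm_num at hordτ
  have hσ1 : σ ≠ 1 := fun h => hσρ (h ▸ one_mem _)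
  have hσn : ∀ x ∈ zpowers ρ, σ * x * σ⁻¹ = x⁻¹ := by
    intro x hx
    obtain ⟨k, rfl⟩ := mem_zpowers_iff.1 hx
    rw [← conj_zpow, hrel, mul_inv_cancel_right, inv_zpow]
  have hτρ : zpowers τ ≤ zpowers ρ := by rw [zpowers_le]; exact pow_mem (mem_zpowers ρ) c
  have hn1 : zpowers σ ≤ normalizer (zpowers τ : Set X) := by
    rw [zpowers_le]
    apply mem_nor
    intro x hx
    rw [hσn x (hτρ hx)]; exact inv_mem hx
  have hσ2 : IsPGroup 2 (zpowers σ) := isPGroup_zpowers (k := 1) (by rw [pow_one]; exact orderOf_of_sq hσσ hσ1)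
  have hns := nor_sup hX Nat.prime_three Nat.prime_two (by norm_num) (isPGroup_zpowers hordτ) hσ2
    (by rw [Ne, zpowers_eq_bot]; exact hτ1) hn1
  have hρn : ρ ∈ normalizer (zpowers τ : Set X) := by
    apply mem_nor
    intro x hx
    have h1 := comm_zpowers (x := ρ) (y := ρ) rfl ρ (mem_zpowers ρ) x (hτρ hx)
    rw [h1, mul_inv_cancel_right]; exact hx
  rw [← hns] at hρn
  have h1 : ρ * σ * ρ⁻¹ ∈ zpowers τ ⊔ zpowers σ := conj_mem hρn (le_sup_right (a := zpowers τ) (mem_zpowers σ))
  obtain ⟨a, ha, b, hb, hab⟩ := (mem_sup_nor hn1).1 h1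
  have h2 : ρ * σ * ρ⁻¹ = ρ * ρ * σ := by
    have h4 : σ * ρ⁻¹ = ρ * σ := by
      have h5 := hσn ρ⁻¹ (inv_mem (mem_zpowers ρ))
      rw [inv_inv] at h5
      exact mul_inv_eq_iff_eq_mul.1 h5
    rw [mul_assoc, h4, mul_assoc]
  rw [h2] at hab
  obtain ⟨k, hk⟩ := mem_zpowers_iff.1 hb
  rcases Int.even_or_odd' k with ⟨j, rfl | rfl⟩
  · exfalso
    rw [zpow_mul, zpow_ofNat, pow_two, hσσ, one_zpow] at hk
    apply hσρ
    have h4 : σ = (ρ * ρ)⁻¹ * a := by rw [← hk, mul_one] at hab; rw [hab]; group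
    rw [h4]
    exact mul_mem (inv_mem (mul_mem (mem_zpowers ρ) (mem_zpowers ρ))) (hτρ ha)
  · rw [zpow_add, zpow_mul, zpow_ofNat, pow_two, hσσ, one_zpow, one_mul, zpow_one] at hk
    rw [← hk] at hab
    have h4 : a = ρ * ρ := mul_right_cancel hab
    have h5 : (ρ * ρ) ^ 3 = 1 := by
      rw [← h4]
      obtain ⟨n, rfl⟩ := mem_zpowers_iff.1 ha
      rw [← zpow_natCast, ← zpow_mul, mul_comm, zpow_mul, zpow_natCast,
        show τ ^ 3 = 1 from by have := pow_orderOf_eq_one τ; rwa [hordτ, pow_one] at this, one_zpow]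
    have h6 : ρ ^ 6 = 1 := by
      rw [← h5, ← pow_two, ← pow_mul]
    rw [← hordρ]
    exact orderOf_dvd_of_pow_eq_one h6

theorem alt_five : ∀ z : Equiv.Perm (Fin 5), Equiv.Perm.sign z = 1 → z * z = 1 → z ≠ 1 →
    ∀ t : Equiv.Perm (Fin 5), Equiv.Perm.sign t = 1 → t * z = z * t → t * t = 1 := by
  decide +kernel

section thirteen

variable {F : Type*} [Field F] [Fintype F]

local notation "PSL2" => Matrix.ProjectiveSpecialLinearGroup (Fin 2) F

local notation "SL2" => Matrix.SpecialLinearGroup (Fin 2) F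

open Cfsg.Agent.ClassicalGeometry.PSL2Basic

/-- characteristic three is impossible -/
theorem not_char_three (hX : PM PSL2) (h3 : (3 : F) = 0) (hodd : Odd (Fintype.card F))
    (hq : 3 < Fintype.card F) : False := by
  let π : SL2 →* PSL2 := QuotientGroup.mk' (center SL2)
  have hπs : Function.Surjective π := QuotientGroup.mk'_surjective _
  have hπ : ∀ a b : SL2, π a = π b → a = b ∨ a = -b := by
    intro a b h
    have h1 := (QuotientGroup.eq (s := center SL2)).1 h
    rcases mem_center_SL2_iff.1 h1 with h2 | h2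
    · exact Or.inl (inv_mul_eq_one.1 h2)
    · right
      have h4 : b = a * -1 := by rw [← h2, mul_inv_cancel_left]
      rw [h4, mul_neg, mul_one, neg_neg]
  let x₀ : SL2 := ⟨!![1, 1; 0, 1], by simp [Matrix.det_fin_two]⟩
  have hpow : ∀ k : ℤ, (((x₀ ^ k : SL2)) : Matrix (Fin 2) (Fin 2) F) = !![1, (k : F); 0, 1] := by
    have hn : ∀ n : ℕ, (((x₀ ^ n : SL2)) : Matrix (Fin 2) (Fin 2) F) = !![1, (n : F); 0, 1] := by
      intro n
      induction n with
      | zero =>
        rw [pow_zero, Matrix.SpecialLinearGroup.coe_one]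
        ext i j; fin_cases i <;> fin_cases j <;> simp
      | succ n ih =>
        rw [pow_succ, Matrix.SpecialLinearGroup.coe_mul, ih]
        ext i j
        fin_cases i <;> fin_cases j <;> simp [x₀, Matrix.mul_apply, Fin.sum_univ_two, add_comm]
    intro k
    rcases Int.eq_nat_or_neg k with ⟨n, rfl | rfl⟩
    · rw [zpow_natCast, hn]; simp
    · rw [zpow_neg, zpow_natCast, Matrix.SpecialLinearGroup.coe_inv, hn]
      rw [Matrix.adjugate_fin_two]
      ext i j; fin_cases i <;> fin_cases j <;> simp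
  set x : PSL2 := π x₀ with hx
  have hx3 : x ^ 3 = 1 := by
    have h1 : x₀ ^ 3 = 1 := by
      apply Subtype.ext
      have := hpow 3
      rw [show (x₀ : SL2) ^ (3 : ℤ) = x₀ ^ 3 from by norm_cast] at this
      rw [this, Matrix.SpecialLinearGroup.coe_one]
      ext i j; fin_cases i <;> fin_cases j <;> simp [h3]
    rw [hx, ← map_pow, h1, map_one]
  have hx1 : x ≠ 1 := by
    intro h
    have h1 : π x₀ = π 1 := by rw [map_one]; exact h
    rcases hπ _ _ h1 with h2 | h2
    · have := congrArg (fun A : SL2 => (A : Matrix (Fin 2) (Fin 2) F) 0 1) h2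
      simp [x₀] at this
    · have := congrArg (fun A : SL2 => (A : Matrix (Fin 2) (Fin 2) F) 0 1) h2
      simp [x₀] at this
  have hord : orderOf x = 3 ^ 1 := by
    rw [pow_one]; exact orderOf_eq_prime hx3 hx1
  have hco := hX (zpowers x) (by rw [Ne, zpowers_eq_bot]; exact hx1)
    (twoP_of_isPGroup Nat.prime_three (isPGroup_zpowers hord))
  -- the image of the upper triangular group
  let B₀ : Subgroup SL2 :=
    { carrier := {A | (A : Matrix (Fin 2) (Fin 2) F) 1 0 = 0}
      one_mem' := by simp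
      mul_mem' := by
        intro a b ha hb
        change ((a * b : SL2) : Matrix (Fin 2) (Fin 2) F) 1 0 = 0
        change (a : Matrix (Fin 2) (Fin 2) F) 1 0 = 0 at ha
        change (b : Matrix (Fin 2) (Fin 2) F) 1 0 = 0 at hb
        rw [Matrix.SpecialLinearGroup.coe_mul, Matrix.mul_apply, Fin.sum_univ_two, ha, hb]
        ring
      inv_mem' := by
        intro a ha
        change ((a⁻¹ : SL2) : Matrix (Fin 2) (Fin 2) F) 1 0 = 0
        change (a : Matrix (Fin 2) (Fin 2) F) 1 0 = 0 at ha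
        rw [Matrix.SpecialLinearGroup.coe_inv, Matrix.adjugate_fin_two]
        simp [ha] }
  have hle : normalizer (zpowers x : Set PSL2) ≤ B₀.map π := by
    intro y hy
    obtain ⟨g, rfl⟩ := hπs y
    obtain ⟨k, hk⟩ := mem_zpowers_iff.1 (conj_mem hy (mem_zpowers x))
    refine ⟨g, ?_, rfl⟩
    change (g : Matrix (Fin 2) (Fin 2) F) 1 0 = 0
    have h1 : π (g * x₀) = π (x₀ ^ k * g) := by
      rw [map_mul, map_mul, map_zpow]
      exact mul_inv_eq_iff_eq_mul.1 hk.symm
    rcases hπ _ _ h1 with h2 | h2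
    · have h4 := congrArg (fun A : SL2 => (A : Matrix (Fin 2) (Fin 2) F) 1 1) h2
      simp only [Matrix.SpecialLinearGroup.coe_mul, hpow] at h4
      simp [x₀, Matrix.mul_apply, Fin.sum_univ_two] at h4
      exact h4
    · have h4 := congrArg (fun A : SL2 => (A : Matrix (Fin 2) (Fin 2) F) 1 0) h2
      simp only [Matrix.SpecialLinearGroup.coe_mul, Matrix.SpecialLinearGroup.coe_neg, hpow] at h4
      simp [x₀, Matrix.mul_apply, Fin.sum_univ_two, Matrix.vecMul, dotProduct] at h4
      have h2' : (2 : F) ≠ 0 := (two_ne_zero_iff_odd F).2 hodd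
      have h5 : (2 : F) * (g : Matrix (Fin 2) (Fin 2) F) 1 0 = 0 := by linear_combination h4
      exact (mul_eq_zero.1 h5).resolve_left h2'
  have hBtop : B₀.map π ≠ ⊤ := by
    intro htop
    let w : SL2 := ⟨!![0, 1; -1, 0], by simp [Matrix.det_fin_two]⟩
    have h1 : π w ∈ B₀.map π := by rw [htop]; exact Subgroup.mem_top _
    obtain ⟨b, hb, hbw⟩ := h1
    have hb' : (b : Matrix (Fin 2) (Fin 2) F) 1 0 = 0 := hb
    rcases hπ _ _ hbw with h2 | h2
    · rw [h2] at hb'; simp [w] at hb'
    · rw [h2, Matrix.SpecialLinearGroup.coe_neg] at hb'; simp [w] at hb'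
  have heq : B₀.map π = normalizer (zpowers x : Set PSL2) := (hco.le_iff.1 hle).resolve_left hBtop
  -- squares
  have hfour : ∀ a : Fˣ, a ^ 4 = 1 := by
    intro a
    let d : SL2 := ⟨!![(a : F), 0; 0, ((a⁻¹ : Fˣ) : F)], by simp [Matrix.det_fin_two]⟩
    have hd : π d ∈ normalizer (zpowers x : Set PSL2) := by
      rw [← heq]
      exact ⟨d, by change (d : Matrix (Fin 2) (Fin 2) F) 1 0 = 0; simp [d], rfl⟩
    obtain ⟨k, hk⟩ := mem_zpowers_iff.1 (conj_mem hd (mem_zpowers x))
    have h1 : π (d * x₀) = π (x₀ ^ k * d) := by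
      rw [map_mul, map_mul, map_zpow]
      exact mul_inv_eq_iff_eq_mul.1 hk.symm
    have h2 : (a : F) = k * ((a⁻¹ : Fˣ) : F) := by
      rcases hπ _ _ h1 with h2 | h2
      · have h4 := congrArg (fun A : SL2 => (A : Matrix (Fin 2) (Fin 2) F) 0 1) h2
        simp only [Matrix.SpecialLinearGroup.coe_mul, hpow] at h4
        simpa [d, x₀, Matrix.mul_apply, Fin.sum_univ_two] using h4
      · exfalso
        have h4 := congrArg (fun A : SL2 => (A : Matrix (Fin 2) (Fin 2) F) 0 0) h2
        simp only [Matrix.SpecialLinearGroup.coe_mul, Matrix.SpecialLinearGroup.coe_neg, hpow] at h4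
        simp [d, x₀, Matrix.mul_apply, Fin.sum_univ_two] at h4
        have h2' : (2 : F) ≠ 0 := (two_ne_zero_iff_odd F).2 hodd
        have h5 : (2 : F) * (a : F) = 0 := by linear_combination h4
        exact a.ne_zero ((mul_eq_zero.1 h5).resolve_left h2')
    have h4 : (a : F) ^ 2 = k := by
      have h5 : (a : F) * a = k * (((a⁻¹ : Fˣ) : F) * a) := by
        nth_rewrite 1 [h2]; ring
      rw [pow_two, h5, ← Units.val_mul, inv_mul_cancel, Units.val_one, mul_one]
    have hk3 : (k : F) = ((k % 3 : ℤ) : F) := by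
      conv_lhs => rw [← Int.emod_add_mul_ediv k 3]
      push_cast
      rw [h3, zero_mul, add_zero]
    have hr : k % 3 = 0 ∨ k % 3 = 1 ∨ k % 3 = 2 := by omega
    apply Units.ext
    rw [Units.val_pow_eq_pow_val, Units.val_one, show 4 = 2 * 2 by norm_num, pow_mul, h4, hk3]
    rcases hr with h | h | h
    · exfalso
      rw [hk3, h, Int.cast_zero] at h4
      exact a.ne_zero (pow_eq_zero_iff (two_ne_zero)|>.1 h4)
    · rw [h]; simp
    · rw [h]; push_cast; linear_combination h3
  classical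
  have hcard : Fintype.card Fˣ ∣ 4 := by
    have h1 : Monoid.exponent Fˣ ∣ 4 := Monoid.exponent_dvd_iff_forall_pow_eq_one.2 hfour
    rwa [IsCyclic.exponent_eq_card, Nat.card_eq_fintype_card] at h1
  rw [Fintype.card_units] at hcard
  have h5 := Nat.le_of_dvd (by norm_num) hcard
  have h6 : Fintype.card F = 4 ∨ Fintype.card F = 5 := by omega
  rcases h6 with h6 | h6
  · rw [h6] at hodd; exact absurd hodd (by decide)
  · have h7 : ((5 : ℕ) : F) = 0 := by rw [← h6]; exact Nat.cast_card_eq_zero F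
    have h8 : (1 : F) = 0 := by
      have : ((5 : ℕ) : F) = 5 := by norm_cast
      rw [this] at h7
      linear_combination 2 * h3 - h7
    exact one_ne_zero h8

end thirteen

end Cfsg.Agent.H546.MaxNor
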