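import Cfsg.Agent.H546.MaxNor

/-!
# Groups in which the normalizers of the nontrivial `{p, q}`-subgroups are maximal: 2-local analysis

`Loc U g r v`: `U` is a 2-group normalized but not centralized by the `r`-element `g`, `r` odd.
-/

set_option autoImplicit false
set_option linter.unusedSectionVars false

namespace Cfsg.Agent.H546.MaxNor

open Subgroup
open scoped Pointwise

variable {X : Type*} [Group X]

/-- an involution normalizing a cyclic group of odd prime power order centralizes or inverts it -/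
theorem invol_act {s k : ℕ} (hs : s.Prime) (hs2 : s ≠ 2) {t u : X} (ht : orderOf t = s ^ k) (hu : u * u = 1)
    (hn : u * t * u⁻¹ ∈ zpowers t) : u * t * u⁻¹ = t ∨ u * t * u⁻¹ = t⁻¹ := by
  obtain ⟨m, hm⟩ := mem_zpowers_iff.1 hn
  have hui : u⁻¹ = u := inv_eq_of_mul_eq_one_right hu
  have h1 : t ^ (m * m) = t := by
    rw [zpow_mul, hm, conj_zpow, hm]
    rw [hui]
    rw [show u * (u * t * u) * u = (u * u) * t * (u * u) by group, hu]
    group
  have h2 : t ^ (m * m - 1) = 1 := by rw [zpow_sub, h1, zpow_one, mul_inv_cancel]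
  have h3 : ((s ^ k : ℕ) : ℤ) ∣ m * m - 1 := by
    rw [← ht]; exact orderOf_dvd_iff_zpow_eq_one.2 h2
  have h4 : ((s : ℤ) ^ k) ∣ (m - 1) * (m + 1) := by
    have : (m - 1) * (m + 1) = m * m - 1 := by ring
    rw [this]; exact_mod_cast h3
  have hsp : Prime (s : ℤ) := Nat.prime_iff_prime_int.1 hs
  rw [← hm]
  by_cases h5 : (s : ℤ) ∣ m - 1
  · have h6 : ¬ (s : ℤ) ∣ m + 1 := by
      intro h6
      have h7 : (s : ℤ) ∣ 2 := by
        have := dvd_sub h6 h5
        rwa [show m + 1 - (m - 1) = 2 by ring] at this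
      have h8 : s ∣ 2 := by exact_mod_cast h7
      exact hs2 ((Nat.prime_dvd_prime_iff_eq hs Nat.prime_two).1 h8)
    left
    have h7 : IsCoprime ((s : ℤ) ^ k) (m + 1) :=
      ((Prime.coprime_iff_not_dvd hsp).2 h6).pow_left
    have h8 := h7.dvd_of_dvd_mul_right h4
    have h9 : t ^ (m - 1) = 1 := by
      rw [← orderOf_dvd_iff_zpow_eq_one, ht]; exact_mod_cast h8
    rw [show m = (m - 1) + 1 by ring, zpow_add, h9, zpow_one, one_mul]
  · right
    have h7 : IsCoprime ((s : ℤ) ^ k) (m - 1) :=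
      ((Prime.coprime_iff_not_dvd hsp).2 h5).pow_left
    have h8 := h7.dvd_of_dvd_mul_left h4
    have h9 : t ^ (m + 1) = 1 := by
      rw [← orderOf_dvd_iff_zpow_eq_one, ht]; exact_mod_cast h8
    rw [show m = (m + 1) - 1 by ring, zpow_sub, h9, zpow_one, one_mul]

/-- `U` is a 2-group normalized but not centralized by the `r`-element `g`, `r` odd -/
structure Loc (U : Subgroup X) (g : X) (r v : ℕ) : Prop where
  two : IsPGroup 2 U
  prime : r.Prime
  odd : r ≠ 2
  ord : orderOf g = r ^ v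
  nor : g ∈ normalizer (U : Set X)
  ncent : ∃ u ∈ U, u * g ≠ g * u

theorem isPGroup_zpowers {p k : ℕ} {x : X} (h : orderOf x = p ^ k) : IsPGroup p (zpowers x) :=
  IsPGroup.of_card (n := k) (by rw [Nat.card_zpowers, h])

theorem comm_zpowers {x y : X} (h : x * y = y * x) : ∀ a ∈ zpowers x, ∀ b ∈ zpowers y, a * b = b * a := by
  intro a ha b hb
  obtain ⟨m, rfl⟩ := mem_zpowers_iff.1 ha
  obtain ⟨n, rfl⟩ := mem_zpowers_iff.1 hb
  exact ((show Commute x y from h).zpow_zpow m n)

/-- an element normalizing the group generated by an involution commutes with it -/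
theorem mem_nor_invol [Finite X] {z y : X} (hz : z * z = 1) (hz1 : z ≠ 1) :
    y ∈ normalizer (zpowers z : Set X) ↔ y * z = z * y := by
  constructor
  · intro hy
    have h1 := conj_mem hy (mem_zpowers z)
    obtain ⟨m, hm⟩ := mem_zpowers_iff.1 h1
    rcases Int.even_or_odd' m with ⟨k, rfl | rfl⟩
    · exfalso
      rw [zpow_mul, zpow_ofNat, pow_two, hz, one_zpow] at hm
      exact hz1 (conj_eq_one_iff.1 hm.symm)
    · rw [zpow_add, zpow_mul, zpow_ofNat, pow_two, hz, one_zpow, one_mul, zpow_one] at hm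
      exact (mul_inv_eq_iff_eq_mul.1 hm.symm)
  · intro hy
    apply mem_nor
    intro x hx
    have := comm_zpowers hy y (mem_zpowers y) x hx
    rw [this, mul_inv_cancel_right]; exact hx

theorem orderOf_of_sq {z : X} (hz : z * z = 1) (hz1 : z ≠ 1) : orderOf z = 2 :=
  orderOf_eq_prime (by rw [pow_two]; exact hz) hz1

namespace Loc

variable [Finite X] {U : Subgroup X} {g : X} {r v : ℕ}

theorem ne_one (L : Loc U g r v) : g ≠ 1 := by
  rintro rfl
  obtain ⟨u, -, h⟩ := L.ncent
  exact h (by rw [mul_one, one_mul])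

theorem U_ne (L : Loc U g r v) : U ≠ ⊥ := by
  rintro rfl
  obtain ⟨u, hu, h⟩ := L.ncent
  rw [Subgroup.mem_bot.1 hu] at h
  exact h (by rw [mul_one, one_mul])

theorem isP (L : Loc U g r v) : IsPGroup r (zpowers g) := isPGroup_zpowers L.ord

theorem zne (L : Loc U g r v) : zpowers g ≠ ⊥ := by
  rw [Ne, zpowers_eq_bot]; exact L.ne_one

theorem zle (L : Loc U g r v) : zpowers g ≤ normalizer (U : Set X) := by
  rw [zpowers_le]; exact L.nor

/-- `g` acts freely on `U` -/
theorem free (hX : PM X) (L : Loc U g r v) {u : X} (hu : u ∈ U) (h : u * g = g * u) : u = 1 := by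
  by_contra hu1
  obtain ⟨w, hw, hwg⟩ := L.ncent
  exact hwg (fix_all hX Nat.prime_two L.prime L.odd.symm L.two L.isP L.zle hu hu1
    (fun ρ hρ => comm_zpowers h u (mem_zpowers u) ρ hρ) w hw g (mem_zpowers g))

theorem min (hX : PM X) (L : Loc U g r v) {V : Subgroup X} (hVU : V ≤ U) (hV : V ≠ ⊥)
    (hg : g ∈ normalizer (V : Set X)) : V = U :=
  eq_of_inv hX Nat.prime_two L.prime L.odd.symm L.two L.isP L.zle
    (fun u hu h => L.free hX hu (h g (mem_zpowers g))) hVU hV (by rw [zpowers_le]; exact hg)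

/-- `U` is the largest normal 2-subgroup of its normalizer -/
theorem core (hX : PM X) (L : Loc U g r v) {W : Subgroup X} (hW : IsPGroup 2 W)
    (hn : normalizer (U : Set X) ≤ normalizer (W : Set X)) : W ≤ U := by
  obtain ⟨C, hC2, hUC, hCn, hmax⟩ := exists_core hX Nat.prime_two L.two L.U_ne
  have hgC : g ∈ normalizer (C : Set X) := by rw [hCn]; exact L.nor
  have hncent : ∃ u ∈ C, u * g ≠ g * u := by
    obtain ⟨u, hu, h⟩ := L.ncent
    exact ⟨u, hUC hu, h⟩
  have L' : Loc C g r v := ⟨hC2, L.prime, L.odd, L.ord, hgC, hncent⟩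
  have : U = C := L'.min hX hUC L.U_ne L.nor
  rw [this]
  exact hmax W hW hn

theorem elem (hX : PM X) (L : Loc U g r v) :
    (∀ u ∈ U, u * u = 1) ∧ ∀ u ∈ U, ∀ w ∈ U, u * w = w * u := by
  let V : Subgroup X :=
    { carrier := {u | u ∈ U ∧ (∀ w ∈ U, w * u = u * w) ∧ u * u = 1}
      one_mem' := ⟨one_mem _, fun w _ => by rw [mul_one, one_mul], by rw [mul_one]⟩
      mul_mem' := by
        rintro a b ⟨ha, ha2, ha3⟩ ⟨hb, hb2, hb3⟩
        refine ⟨mul_mem ha hb, fun w hw => ?_, ?_⟩
        · rw [← mul_assoc, ha2 w hw, mul_assoc, hb2 w hw, mul_assoc]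
        · rw [show a * b * (a * b) = a * (b * a) * b by group, ← ha2 b hb |>.symm]
          rw [show a * (a * b) * b = (a * a) * (b * b) by group, ha3, hb3, mul_one]
      inv_mem' := by
        rintro a ⟨ha, ha2, ha3⟩
        have : a⁻¹ = a := inv_eq_of_mul_eq_one_right ha3
        rw [this]
        exact ⟨ha, ha2, ha3⟩ }
  have hVU : V ≤ U := fun x hx => hx.1
  have hgV : g ∈ normalizer (V : Set X) := by
    apply mem_nor
    rintro x ⟨h1, h2, h3⟩
    refine ⟨conj_mem L.nor h1, fun w hw => ?_, ?_⟩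
    · have h4 := h2 _ (conj_mem' L.nor hw)
      calc w * (g * x * g⁻¹) = g * (g⁻¹ * w * g * x) * g⁻¹ := by group
        _ = g * (x * (g⁻¹ * w * g)) * g⁻¹ := by rw [h4]
        _ = g * x * g⁻¹ * w := by group
    · rw [show g * x * g⁻¹ * (g * x * g⁻¹) = g * (x * x) * g⁻¹ by group, h3]; group
  have hV1 : V ≠ ⊥ := by
    have hfact : Fact (Nat.Prime 2) := ⟨Nat.prime_two⟩
    have hnt : Nontrivial U := (Subgroup.nontrivial_iff_ne_bot U).2 L.U_ne
    have hct := L.two.center_nontrivial
    obtain ⟨c, hc1⟩ := exists_ne (1 : Subgroup.center U)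
    obtain ⟨k, hk⟩ := (L.two.to_le (le_refl U)) ⟨(c : U), by exact (c : U).2⟩
    -- an involution in the centre
    have hcU : ((c : U) : X) ≠ 1 := by
      intro h
      apply hc1
      apply Subtype.ext
      apply Subtype.ext
      exact h
    have hpow : ∃ m : ℕ, ((c : U) : X) ^ 2 ^ m ≠ 1 ∧ ((c : U) : X) ^ 2 ^ (m + 1) = 1 := by
      obtain ⟨k, hk⟩ := L.two (c : U)
      have hk' : ((c : U) : X) ^ 2 ^ k = 1 := congrArg Subtype.val hk
      induction k with
      | zero => rw [pow_zero, pow_one] at hk'; exact absurd hk' hcU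
      | succ k ih =>
        by_cases h : ((c : U) : X) ^ 2 ^ k = 1
        · exact ih (Subtype.ext h) h
        · exact ⟨k, h, hk'⟩
    obtain ⟨m, hm1, hm2⟩ := hpow
    intro hbot
    have hmem : ((c : U) : X) ^ 2 ^ m ∈ V := by
      refine ⟨pow_mem (c : U).2 _, fun w hw => ?_, ?_⟩
      · have h1 := Subgroup.mem_center_iff.1 c.2 ⟨w, hw⟩
        have h2 : w * (c : U) = (c : U) * w := congrArg Subtype.val h1
        exact (show Commute w ((c : U) : X) from h2).pow_right _
      · rw [← pow_add, ← two_mul, ← pow_succ', hm2]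
    rw [hbot, Subgroup.mem_bot] at hmem
    exact hm1 hmem
  have hVU' := L.min hX hVU hV1 hgV
  constructor
  · intro u hu
    rw [← hVU'] at hu
    exact hu.2.2
  · intro u hu w hw
    rw [← hVU'] at hw
    exact hw.2.1 u hu

/-- the centralizer of `U` is `U` -/
theorem cent (hX : PM X) (L : Loc U g r v) {x : X} (hx : ∀ u ∈ U, u * x = x * u) : x ∈ U := by
  have hle : IsPGroup 2 (centralizer (U : Set X)) := by
    rintro ⟨y, hy⟩
    have hy' : ∀ u ∈ U, u * y = y * u := fun u hu => mem_centralizer_iff.1 hy u hu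
    by_contra hcon
    push Not at hcon
    -- an odd prime divides the order of `y`
    have hord : ∀ k, orderOf y ≠ 2 ^ k := by
      intro k hk
      apply hcon k
      apply Subtype.ext
      change y ^ 2 ^ k = 1
      rw [← hk]; exact pow_orderOf_eq_one y
    obtain ⟨s, hs, hs2, hsd⟩ : ∃ s : ℕ, s.Prime ∧ s ≠ 2 ∧ s ∣ orderOf y := by
      by_contra hno
      push Not at hno
      have : ∃ k, orderOf y = 2 ^ k := by
        refine ⟨(orderOf y).primeFactorsList.length, Nat.eq_prime_pow_of_unique_prime_dvd (orderOf_pos y).ne' ?_⟩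
        intro d hd hdd
        by_contra hd2
        exact hno d hd hd2 hdd
      obtain ⟨k, hk⟩ := this
      exact hord k hk
    obtain ⟨c, hc⟩ := hsd
    have ht : orderOf (y ^ c) = s ^ 1 := by
      rw [pow_one, orderOf_pow, hc, Nat.gcd_eq_right (Dvd.intro_left s rfl)]
      exact Nat.mul_div_cancel _ (Nat.pos_of_ne_zero (by rintro rfl; exact (orderOf_pos y).ne' (by rw [hc]; rfl)))
    set t := y ^ c with htdef
    have ht1 : t ≠ 1 := by
      intro h
      rw [h, orderOf_one, pow_one] at ht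
      exact hs.ne_one ht.symm
    have htU : ∀ u ∈ U, u * t = t * u := fun u hu =>
      (show Commute u y from hy' u hu).pow_right c
    have h1 := nor_comm hX Nat.prime_two hs hs2.symm L.two (isPGroup_zpowers ht) L.U_ne
      (by rw [Ne, zpowers_eq_bot]; exact ht1)
      (fun a ha b hb => by
        obtain ⟨m, rfl⟩ := mem_zpowers_iff.1 hb
        exact (show Commute a t from htU a ha).zpow_right m)
    obtain ⟨z, hz, hz1⟩ := (Subgroup.bot_or_exists_ne_one U).resolve_left L.U_ne
    have hzz := (L.elem hX).1 z hz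
    have h2 := nor_comm hX Nat.prime_two hs hs2.symm
      (isPGroup_zpowers (p := 2) (k := 1) (x := z) (by rw [pow_one]; exact orderOf_of_sq hzz hz1))
      (isPGroup_zpowers ht) (by rw [Ne, zpowers_eq_bot]; exact hz1) (by rw [Ne, zpowers_eq_bot]; exact ht1)
      (comm_zpowers (htU z hz))
    have h3 : g ∈ normalizer (zpowers z : Set X) := by rw [h2, ← h1]; exact L.nor
    rw [mem_nor_invol hzz hz1] at h3
    exact hz1 (L.free hX hz h3.symm)
  refine L.core hX hle ?_ (mem_centralizer_iff.2 hx)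
  intro m hm
  apply mem_nor
  intro y hy
  rw [mem_centralizer_iff]
  intro u hu
  have h1 := mem_centralizer_iff.1 hy _ (conj_mem' hm hu)
  calc u * (m * y * m⁻¹) = m * (m⁻¹ * u * m * y) * m⁻¹ := by group
    _ = m * (y * (m⁻¹ * u * m)) * m⁻¹ := by rw [h1]
    _ = m * y * m⁻¹ * u := by group

/-- an element of `U` commuting with `g ^ 2` is trivial -/
theorem free_sq (hX : PM X) (L : Loc U g r v) {u : X} (hu : u ∈ U) (h : u * (g * g) = g * g * u) : u = 1 := by
  apply L.free hX hu
  have hodd : Odd (orderOf g) := by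
    rw [L.ord]; exact (L.prime.odd_of_ne_two L.odd).pow
  obtain ⟨k, hk⟩ := hodd
  have h1 : (g * g) ^ (k + 1) = g := by
    rw [← pow_two, ← pow_mul, show 2 * (k + 1) = orderOf g + 1 by omega, pow_succ, pow_orderOf_eq_one, one_mul]
  have h2 : Commute u (g * g) := h
  have h3 := h2.pow_right (k + 1)
  rw [h1] at h3
  exact h3

end Loc

end Cfsg.Agent.H546.MaxNor
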